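import Cfsg.Agent.TAB.B.C3.T18A
import Cfsg.Agent.TAB.B.C3.T18B

/-!
# The type 18AB of the Baby Monster (helper84, TAB): two classes; 15 conjugates of `zB` commute with `18A`
-/

set_option autoImplicit false
set_option maxRecDepth 100000
set_option Elab.async false

namespace Cfsg.Agent.TAB.B.C3

open Subgroup Equiv Cfsg.Agent.BabyM.Conc Cfsg.Agent.BabyM.TransInv Cfsg.Agent.H819.U33 Cfsg.Agent.BMx.Fast
  Cfsg.Agent.TAB.B.Tr Cfsg.Agent.H123.Cls Cfsg.Agent.TAB.Eng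
open Cfsg.Agent.H863.U33 (wy1)

/-- an element conjugating `x` to `y` normalises `⟨yy⟩` -/
theorem conj_mem_NN {x y a : G} {k : ℕ} (hx : x ^ k = yy ∨ x ^ k = yy⁻¹) (hy : y ^ k = yy ∨ y ^ k = yy⁻¹)
    (h : a * x * a⁻¹ = y) : a ∈ NN := by
  have := finG
  have h1 : a * x ^ k * a⁻¹ = y ^ k := by rw [← h, conj_pow]
  have h2 : a * yy * a⁻¹ ∈ zpowers yy := by
    have h3 : y ^ k ∈ zpowers yy := by
      rcases hy with h4 | h4 <;> rw [h4]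
      · exact mem_zpowers yy
      · exact inv_mem (mem_zpowers yy)
    rcases hx with h4 | h4
    · rw [← h1, h4] at h3
      exact h3
    · rw [← h1, h4] at h3
      have h5 := inv_mem h3
      rwa [← conj_inv, inv_inv] at h5
  refine mem_normalizer_fintype fun n hn => ?_
  obtain ⟨j, rfl⟩ := mem_zpowers_iff.1 hn
  rw [← conj_zpow]
  exact zpow_mem h2 j

/-- the invariant of a word -/
theorem pwc_el {w : List (Fin 18)} {j : ℕ} {cs : List ℕ} (hc : evC w = cs) (h8 : fld 6 (cs.getD 8 0) 8 = 1) {c : ℕ}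
    (h : chkSig 6561 13 row 13 (tab cs) [(true, 1)] [c] = true) : pwc row (pi (el w j)) (true, 1) = c := by
  have h1 : Rp cs (rho (el w j)) := by rw [rho_el, ← hc]; exact rp_ev w
  have h2 := sig_of_chk (by norm_num) (pi_tab h1 h8) h rfl
  exact (List.cons.inj h2).1

theorem sigA : chkSig 6561 13 row 13 (tab T18A.cs) [(true, 1)] [1701] = true := by decide +kernel

theorem sigB : chkSig 6561 13 row 13 (tab T18B.cs) [(true, 1)] [1215] = true := by decide +kernel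

theorem isConj_cj (c m : List Ltr) : IsConj (g m) (g (cj c m)) :=
  isConj_iff.2 ⟨(g c)⁻¹, by rw [g_cj, inv_inv]⟩

theorem not_conj_18 : ¬ IsConj (g T18A.wm) (g T18B.wm) := by
  intro h
  obtain ⟨a, ha⟩ := isConj_iff.1 (((isConj_cj T18A.wc _).symm.trans h).trans (isConj_cj T18B.wc _))
  have hN := conj_mem_NN (pow_yy T18A.h2) (pow_yy T18B.h2) ha
  have eA := (eq_of_eqF T18A.h1).trans (g_el _ _)
  have eB := (eq_of_eqF T18B.h1).trans (g_el _ _)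
  have e : (⟨a, hN⟩ : NN) * el [1, 11, 15] 2 * (⟨a, hN⟩ : NN)⁻¹ = el [5, 11, 15] 1 := by
    apply Subtype.ext
    rw [← eB, ← ha, eA]
    rfl
  have h1 := pwc_conj (r := pi (el [1, 11, 15] 2)) (pi_aut ⟨a, hN⟩) (true, 1)
  rw [← map_inv, ← map_mul, ← map_mul, e, pwc_el T18A.hc (by decide +kernel) sigA,
    pwc_el T18B.hc (by decide +kernel) sigB] at h1
  exact absurd h1 (by norm_num)

theorem box_18AB : BoxB 90 := by
  have := finG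
  refine Box.of_two T18A.ty T18B.ty not_conj_18 T18A.cent T18B.cent ?_
  rw [cnt_18AB, card_B]

/-! ### the conjugates of `zB` -/

/-- the conjugators -/
def wa : List (List Ltr) := [[.Z10, .Z9, .Z6, .Z5, .Z4, .Z1, .Z0, .X8, .X7, .X6, .X4, .X2, .X1, .X0, .y8, .y5, .y4,
  .y3, .y2, .p5, .hi, .p10, .hi, .p4, .hi, .p, .hi, .p3, .hi, .p7, .hi, .taui, .y1, .xii, .p10, .xii, .y4, .p10, .xii,
  .y1, .y5, .p6, .xii, .p6, .xii, .y4, .y9, .tau, .xii, .p10, .xii, .y5, .p9, .xii, .y9, .tau], [.Z8, .Z5, .Z2, .Z1,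
  .Z0, .X9, .X6, .X5, .X1, .y6, .y5, .y4, .y3, .y2, .hi, .p9, .hi, .p10, .hi, .p7, .hi, .p9, .hi, .p4, .xii, .p, .xii,
  .p, .xii, .y2, .y3, .taui, .y1, .xii, .y2, .hi, .xii, .p10, .xii, .y3, .y7, .taui, .y1, .xii, .y1, .hi, .xii, .p5,
  .hi, .p5, .X0, .p9, .xii, .p3, .y2, .xii, .tau, .xii, .p6, .xii, .p7, .y2, .xii, .tau, .xii, .p6], [.Z10, .Z9, .Z7,
  .Z2, .Z0, .X5, .X4, .X0, .y10, .y8, .y5, .y4, .y2, .y1, .p, .hi, .p10, .hi, .p8, .hi, .p7, .hi, .p10, .hi, .p, .xii,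
  .p, .xii, .y6, .p9, .xii, .y4, .tau, .xii, .p, .xii, .hi, .y8, .xii, .y5, .y9, .y10, .taui, .y1, .xii, .p10, .xii,
  .y1, .p10, .xii, .y4, .X0, .p10, .xii, .y10, .p5, .xii, .y1, .taui, .xii, .p4, .xii, .p5, .xii, .y1, .y2, .tau,
  .xii, .hi, .p2], [.z, .Z9, .Z8, .Z6, .Z4, .Z3, .X10, .X9, .X8, .X7, .X6, .X5, .X4, .X1, .X0, .y10, .y9, .y8, .y6,
  .y5, .y2, .p6, .hi, .p5, .hi, .p8, .hi, .p7, .hi, .p10, .hi, .p3, .hi, .xii, .hi, .xii, .p10, .xii, .y9, .y10,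
  .taui, .xii, .y2, .p, .xii, .y1, .hi, .xii, .y2, .y3, .tau, .xii, .y1, .hi, .p8, .xii, .y2, .y9, .p10, .X0, .p8,
  .xii, .y5, .p, .xii, .tau, .xii, .p9, .xii, .p8, .y5, .xii, .y7, .tau, .xii, .p5], [.Z9, .Z8, .Z6, .Z2, .X9, .X8,
  .X7, .X6, .X2, .X1, .y7, .y6, .y3, .y2, .p10, .hi, .p5, .hi, .p9, .hi, .p5, .hi, .p7, .hi, .xii, .y2, .p10, .xii,
  .y1, .y7, .tau, .xii, .y1, .p, .xii, .y4, .p, .xii, .y5, .tau, .xii, .y6, .p, .xii, .y10, .p, .xii, .y1, .y4, .tau,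
  .X0, .p10, .xii, .p9, .xii, .y1, .taui, .xii, .p9, .xii, .y7, .p3, .y9, .taui, .xii, .hi, .p2], [.Z9, .Z8, .Z6, .Z3,
  .X9, .X8, .X7, .X3, .X1, .y9, .y7, .y6, .y5, .p10, .hi, .p8, .hi, .p10, .hi, .p3, .hi, .p9, .hi, .p5, .hi, .xii,
  .y2, .p, .xii, .y1, .hi, .p8, .taui, .xii, .p, .xii, .hi, .y8, .xii, .y3, .tau, .p7, .xii, .y6, .p, .hi, .xii, .y5,
  .p7, .xii, .p7, .xii, .taui, .xii, .p8, .xii, .y3, .y9, .p10, .taui, .xii, .p7], [.Z8, .Z4, .Z1, .Z0, .X9, .X7, .X5,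
  .X3, .X2, .y10, .y7, .y5, .y3, .y1, .p7, .hi, .p10, .hi, .p9, .hi, .p4, .hi, .p7, .hi, .p6, .xii, .hi, .p8, .xii,
  .y1, .y7, .tau, .xii, .y6, .p, .xii, .y2, .p, .xii, .y5, .tau, .xii, .y2, .p, .xii, .y2, .hi, .xii, .y6, .y1, .p10,
  .xii, .p5, .xii, .y7, .taui, .xii, .p7, .xii, .y6, .p9, .xii, .y3, .y7, .taui, .xii, .p5, .hi], [.z, .Z10, .Z8, .Z0,
  .X10, .X8, .X6, .X3, .X2, .X0, .y10, .y8, .y3, .y2, .y1, .p6, .hi, .p10, .hi, .p3, .hi, .p10, .hi, .p, .hi, .p2,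
  .xii, .hi, .xii, .p8, .xii, .y4, .tau, .xii, .p, .xii, .y2, .hi, .xii, .y1, .tau, .xii, .y1, .p3, .hi, .xii, .y8,
  .p9, .xii, .y10, .p6, .xii, .y8, .taui, .xii, .p9, .xii, .p6, .xii, .y7, .tau, .xii, .p2, .hi], [.Z10, .Z9, .Z7,
  .Z6, .Z4, .Z3, .X10, .X9, .X8, .X4, .X3, .X2, .X1, .y8, .y7, .y6, .y5, .y4, .y1, .p8, .hi, .p6, .hi, .p8, .hi, .p4,
  .hi, .p5, .hi, .p8, .hi, .tau, .y1, .xii, .p10, .xii, .y8, .p10, .xii, .y9, .p6, .xii, .p2, .xii, .y1, .taui, .xii,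
  .p, .xii, .y10, .p4, .xii, .y1, .tau], [.z, .Z10, .Z8, .Z6, .Z5, .Z2, .Z1, .Z0, .X9, .X8, .X7, .X6, .X5, .X4, .X3,
  .y10, .y9, .y7, .y6, .hi, .p6, .hi, .p8, .hi, .p10, .hi, .p7, .hi, .p10, .hi, .xii, .p10, .xii, .y10, .p9, .xii,
  .y6, .taui, .y1, .xii, .y1, .hi, .xii, .p10, .xii, .y4, .y10, .tau, .xii, .p3, .hi, .xii, .y2, .y8, .X0, .p6, .xii,
  .p8, .xii, .y7, .taui, .xii, .y2, .p7, .xii, .y10, .p5, .taui, .xii, .hi, .p10], [.Z10, .Z8, .Z7, .Z4, .X9, .X8,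
  .X6, .X4, .X3, .X1, .y6, .y5, .y4, .y3, .y1, .p, .hi, .p5, .hi, .p8, .hi, .p6, .hi, .p3, .hi, .p3, .hi, .xii, .hi,
  .xii, .p10, .xii, .y10, .taui, .xii, .y1, .p, .xii, .p, .xii, .y3, .y8, .taui, .xii, .y6, .p3, .hi, .xii, .y1, .hi,
  .p10, .y1, .p9, .xii, .y4, .hi, .xii, .taui, .xii, .p3, .xii, .p10, .xii, .y4, .y10, .tau, .xii, .p5], [.Z8, .Z7,
  .Z6, .Z5, .Z3, .Z2, .Z1, .X10, .X8, .X6, .X3, .X0, .y10, .y8, .y7, .hi, .p10, .hi, .p10, .hi, .p6, .hi, .p8, .hi,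
  .p8, .xii, .p10, .xii, .y5, .p5, .hi, .p5, .taui, .X0, .xii, .p3, .xii, .hi, .xii, .hi, .y9, .taui, .xii, .y1, .p,
  .xii, .p, .xii, .y6, .tau, .X0, .p2, .xii, .p4, .xii, .taui, .xii, .p9, .xii, .hi, .y10, .xii, .y2, .taui, .xii,
  .y2, .p6, .xii], [.z, .Z10, .Z8, .Z7, .Z6, .Z4, .Z2, .Z1, .X10, .X6, .X4, .y9, .y5, .y2, .y1, .p4, .hi, .p, .hi,
  .p3, .hi, .p7, .hi, .p7, .hi, .p, .hi, .tau, .xii, .p, .xii, .y3, .hi, .xii, .y2, .y7, .p10, .xii, .p5, .xii, .y6,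
  .taui, .xii, .p, .xii, .y6, .p9, .xii, .y5, .tau], [.z, .Z9, .Z8, .Z5, .Z2, .X9, .X7, .X2, .y10, .y9, .y7, .y5, .y4,
  .y3, .y1, .p10, .hi, .p6, .hi, .p6, .hi, .p3, .hi, .p7, .hi, .p2, .xii, .hi, .xii, .y4, .p9, .xii, .y5, .taui, .xii,
  .y1, .p, .xii, .p, .xii, .y7, .taui, .xii, .y6, .p, .xii, .y10, .p, .xii, .y1, .y2, .p9, .xii, .y6, .p10, .xii, .y7,
  .tau, .xii, .p5, .xii, .y4, .hi, .p5, .hi, .p3, .taui, .xii, .y2], [.Z10, .Z7, .Z4, .Z3, .Z2, .Z1, .Z0, .X10, .X7,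
  .X6, .X5, .X3, .X1, .X0, .y9, .p9, .hi, .p6, .hi, .p8, .hi, .p6, .hi, .p7, .xii, .p, .xii, .y2, .p9, .xii, .y8,
  .tau, .xii, .p, .xii, .y2, .hi, .xii, .y4, .y5, .tau, .y1, .xii, .y2, .hi, .xii, .y10, .p10, .xii, .y4, .y9, .p4,
  .xii, .p9, .xii, .y7, .taui, .xii, .p4, .xii, .p4, .xii, .y1, .y10, .tau, .xii, .hi]]

/-- the conjugates -/
def wz (i : ℕ) : List Ltr := cj (wa.getD i []) [.z]

/-- the pairs -/
def prs : List (ℕ × ℕ) := (List.range 15).flatMap fun b => (List.range b).map fun a => (a, b)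

/-- the program -/
def prog : List BMx.Fast.Ins :=
  ((List.range 15).map fun i => .run 0 (wz i)) ++ prs.map fun p => .ne (p.1 + 1) (p.2 + 1)

theorem prog_ok : exec prog = true := by decide +kernel

theorem words_prog : words prog = [] :: (List.range 15).map wz := by rfl

theorem word_prog (i : Fin 15) : word prog (i + 1) = wz i := by
  unfold word
  rw [words_prog, List.getD_cons_succ, List.getD_eq_getElem _ _ (by simp), List.getElem_map, List.getElem_range]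

theorem mem_prs : ∀ a b : Fin 15, a < b → ((a : ℕ), (b : ℕ)) ∈ prs := by decide +kernel

theorem wz_ne {a b : Fin 15} (h : a < b) : g (wz a) ≠ g (wz b) := by
  rw [← word_prog, ← word_prog]
  exact exec_ne prog_ok (List.mem_append_right _ (List.mem_map.2 ⟨_, mem_prs a b h, rfl⟩))

theorem wz_comm : allEq ((List.range 15).map fun i => (wz i ++ T18A.wm, T18A.wm ++ wz i)) = true := by
  decide +kernel

theorem g_z : g [.z] = zB := by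
  have h1 : g [.z] = zB⁻¹ := congrArg Inv.inv (Subtype.ext (W_single .z))
  have h2 : g [.z] = g (winv [.z]) := eq_of_eqF (by decide +kernel)
  rw [h2, g_winv, h1, inv_inv]

/-- **the class 18A** -/
theorem exists_18A : ∃ x : BG, TyB 90 x ∧ Nat.card (centralizer ({x} : Set BG)) ≤ 1296 ∧
    ∃ f : Fin 15 → BG, Function.Injective f ∧ ∀ i, IsConj zB (f i) ∧ f i * x = x * f i := by
  refine ⟨g T18A.wm, T18A.ty, T18A.cent, fun i => g (wz i), fun a b h => ?_, fun i => ⟨?_, ?_⟩⟩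
  · rcases lt_trichotomy a b with h1 | h1 | h1
    · exact absurd h (wz_ne h1)
    · exact h1
    · exact absurd h.symm (wz_ne h1)
  · rw [← g_z]
    exact isConj_cj _ _
  · have h := eq_of_allEq wz_comm _ (List.mem_map.2 ⟨i, List.mem_range.2 i.2, rfl⟩)
    rwa [g_append, g_append] at h

end Cfsg.Agent.TAB.B.C3
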