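import Cfsg.Agent.TAB.B.C3.Use

/-!
# The type 6I of the Baby Monster (helper84, TAB; generated)
-/

set_option autoImplicit false
set_option maxRecDepth 100000
set_option Elab.async false

namespace Cfsg.Agent.TAB.B.C3.T6I

open Subgroup Cfsg.Agent.BabyM.Conc Cfsg.Agent.BabyM.TransInv Cfsg.Agent.H819.U33 Cfsg.Agent.BMx.Fast
  Cfsg.Agent.TAB.B.Tr Cfsg.Agent.H123.Cls Cfsg.Agent.TAB.Eng
open Cfsg.Agent.H863.U33 (wy1)

/-- word -/
def wm : List Ltr := [.p5, .hi, .p5, .hi, .p5, .hi, .p5, .hi, .p7, .tau, .p4]

/-- plane -/
def pm_0 : ℕ := 0xffffffffffffffffffffffffffffffffffffffffffffffffffffffffffffffffffffffffffffffffffffffffffffffffffffffffffffffffffffffffffffffffffffffffffffffffffffffffffffffffffffffffffffffffffffffffffffffffffffffffffffffffffffffffffffffffffffffffffffffffffffffffffffffff000000000000000000000000000000000000000000000000000000000000000000000000000000000000000000000000000000000000000000000000000000000000000000000000000000000000000000000000000000000000000000000000000000000000000000000000000000000000000000000000000000000000000000000000000000000000000000000000000000000000000000000000000000000000000000000000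000000000000000000000000000000000000000000000000000000000000000000000000000000000000000000000000000000000000000000000000000000000000000000000000000000000000000000000000000000000000000000000000000000000000000000000000000000000000000000000000000000000000000000000000000000000000000000000000000000000000000000000000000000000000000000000000000000000008692000587b200008692000000000000000000000ffff00000000ffff0000aaaaaaaa0000ffffffff0000000000000000ffff0000ffff0000aaaaaaaa000000000000000000000000ffffffffffff000000000000000000000000ffffffffffff00000000000000000000ffffffff00000000000000000000ffffffffffffffffffffffff00000000000000000000000000000000ffffffff0000aaaaffff00000000ffff000000000000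

/-- plane -/
def pm_1 : ℕ := 0xffffffffffffffffffffffffffffffffffffffffffffffffffffffffffffffffffffffffffffffffffffffffffffffffffffffffffffffffffffffffffffffffffffffffffffffffffffffffffffffffffffffffffffffffffffffffffffffffffffffffffffffffffffffffffffffffffffffffffffffffffffffffffffffff000000000000000000000000000000000000000000000000000000000000000000000000000000000000000000000000000000000000000000000000000000000000000000000000000000000000000000000000000000000000000000000000000000000000000000000000000000000000000000000000000000000000000000000000000000000000000000000000000000000000000000000000000000000000000000000000000000000000000000000000000000000000000000000000000000000000000000000000000000000000000000000000000000000000000000000000000000000000000000000000000000000000000000000000000000000000000000000000000000000000000000000000000000000000000000000000000000000000000000000000000000000000000000000000000000000000000000000000000000000000000000000000000000000000000000000000000000000000000000000000000000000000000000000000000000000000000000000000000000000000000000000000000000000000000000000000000000000000000000000000000000000000000000000000000000000000000000000000000000000000000000000000000000000000000000000000007396800023848000238480000000000000ffffffff0000ffffffff00000000cccccccc00000000000000000000ffffffff0000000000000000ccccccccffffffffffffffffffffffff000000000000ffffffffffffffffffffffff000000000000000000000000ffffffff0000000000000000000000000000000000000000000000000000000000000000000000000000ffffffff00000000ffffcccc0000ffff00000000000000000000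

/-- plane -/
def pm_2 : ℕ := 0xf0f0f0f000000000000000000000000000000000000000000000f0f0f0f000000000000000000000000000000000000000000000000000000000000000000000000000000000000000000000000000000000000000000000000000000000000000000000000000000000000000000000000000000000000000000000f0f00000000000000000000000000000

/-- plane -/
def pm_3 : ℕ := 0xff00ff0000000000000000000000000000000000000000000000ff00ff0000000000000000000000000000000000000000000000000000000000000000000000000000000000000000000000000000000000000000000000000000000000000000000000000000000000000000000000000000000000000000000000ff000000000000000000000000000000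

theorem cm_0 : trF wm 4 [pm_0, pm_1, pm_2, pm_3] U (52) = true := by decide +kernel

theorem ch_m : chB (g wm) = ((13 : ℤ) : ℚ) := chB_of (dg_of_trF cm_0) (by decide) (by decide)

/-- word -/
def wv3 : List Ltr := [.Z9, .Z8, .Z6, .Z5]

theorem cv3_0 : trF wv3 1 [] U (19) = true := by decide +kernel

theorem ch_v3 : chB (g wv3) = ((19 : ℤ) : ℚ) := chB_of (dg_of_trF cv3_0) (by decide) (by decide)

/-- word -/
def c3 : List Ltr := []

theorem l3 : eqF (cj c3 wv3) (pw wm 3) = true := by decide +kernel

/-- word -/
def wc : List Ltr := [.z, .Z8, .Z7, .Z5, .Z4, .Z3, .Z2, .Z1, .X5, .X3, .X0, .y10, .y8, .y4, .y3, .y1, .p10, .hi, .p2,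
  .hi, .p5, .hi, .p, .hi, .p3, .hi, .p2, .xii, .p10, .hi, .p8, .tau, .y1, .xii, .p10, .xii, .y4, .p10, .hi, .p8, .tau,
  .y1, .xii, .y1, .hi, .p10, .hi, .p2, .xii, .p4, .hi, .p2, .tau]

/-- word -/
def ws : List Ltr := [.z, .Z8, .Z7, .Z2, .Z1, .Z0, .X9, .X6, .X4, .X3, .X2, .y9, .y7, .y6, .y2, .y1, .p2, .hi, .p6,
  .hi, .p8, .hi, .p, .hi, .p6, .hi, .xii, .p2, .hi, .xii, .y1, .y5, .xii, .p5, .y4, .hi, .p10]

theorem ord : ordF wm 6 = true := by decide +kernel

theorem h1 : eqF (cj wc wm) (flat [8] ++ pw wy1 2) = true := by decide +kernel

theorem h2 : or (eqF (cj wc (pw wm 2)) wy1) (eqF (cj wc (pw wm 2)) (winv wy1)) = true := by decide +kernel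

/-- the columns -/
def cs : List ℕ := [2, 128, 8192, 524288, 33554432, 2147483648, 137438953472, 8796093022208, 281474976710656]

theorem hc : evC [8] = cs := by decide +kernel

theorem hb : chkB 6561 13 row 13 (tab cs) [(false, 1), (true, 1)] [.cell [(false, 0), (false, 1)], .base 0 91 2, .cell
  [(true, 3), (true, 1), (true, 0)], .base 0 11 2, .cell [(true, 2), (false, 1), (false, 0)], .base 0 729 2, .cell
  [(true, 9), (true, 3), (true, 0), (false, 4), (false, 1), (false, 7)], .base 0 1016 2, .cell [(true, 10), (true, 1),
  (true, 4), (true, 3), (false, 12), (true, 0), (false, 7), (false, 6)], .cnt 0 [0], .cell [(true, 10), (false, 0),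
  (true, 9), (false, 6), (false, 5)], .cnt 0 [0], .cell [(true, 16), (true, 14), (true, 11), (false, 0), (true, 10),
  (true, 8), (true, 7)], .cnt 0 [0], .cell [(true, 18), (false, 4), (true, 13), (false, 2), (true, 10), (true, 12),
  (false, 15)], .cnt 0 [0], .cell [(true, 20), (true, 15), (true, 12), (true, 9), (false, 4), (true, 14)], .cnt 0 [0],
  .cell [(true, 22), (true, 17), (true, 14), (true, 10), (false, 6), (true, 16)], .cnt 0 [0], .cell [(true, 24),
  (true, 22), (false, 2), (true, 16), (true, 18), (false, 6)], .cnt 0 [0], .cell [(true, 26), (true, 24), (true, 15),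
  (false, 6), (false, 14), (true, 21), (false, 23)], .cnt 0 [0], .cell [(true, 28), (true, 25), (false, 0), (true,
  20), (true, 22), (true, 12)], .cnt 0 [0], .cell [(true, 30), (true, 27), (false, 16), (false, 8), (true, 24), (true,
  14)], .cnt 0 [0], .cell [(true, 32), (true, 29), (false, 4), (true, 20), (false, 2), (false, 21), (false, 30)], .cnt
  0 [0], .cell [(true, 34), (true, 31), (false, 20), (false, 2), (true, 28), (false, 32)], .cnt 0 [0], .cell [(true,
  36), (true, 31), (true, 28), (true, 24), (false, 2), (false, 34), (false, 13)], .cnt 0 [0], .cell [(true, 38),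
  (true, 35), (false, 10), (true, 27), (false, 20), (false, 26), (false, 36)], .cnt 0 [0], .cell [(true, 40), (true,
  35), (true, 28), (false, 22), (false, 29), (false, 32), (false, 37), (true, 26), (false, 38)], .cnt 0 [0], .cell
  [(true, 42), (true, 40), (false, 0), (true, 30), (false, 2), (false, 31), (false, 39)], .cnt 0 [0], .cell [(true,
  44), (true, 39), (true, 33), (false, 26), (false, 32), (true, 28), (false, 42), (true, 30), (false, 36)], .cnt 0
  [0], .cell [(true, 46), (true, 41), (true, 38), (true, 35), (false, 24), (true, 40)], .cnt 0 [0], .cell [(true, 48),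
  (true, 46), (false, 0), (false, 34), (true, 40), (false, 32)], .cnt 0 [0], .cell [(true, 50), (true, 48), (true,
  38), (false, 0), (true, 44), (false, 39)], .cnt 0 [0], .cell [(true, 52), (true, 50), (false, 10), (false, 38),
  (true, 47), (true, 0)], .cnt 0 [0], .cell [(true, 54), (true, 52), (false, 12), (false, 40), (true, 49), (false,
  1)], .cnt 0 [0], .cell [(true, 56), (true, 54), (false, 24), (false, 42), (false, 40), (false, 53)], .cnt 0 [0],
  .cell [(true, 58), (true, 56), (false, 24), (false, 0), (false, 44), (false, 52)], .cnt 0 [0], .cell [(true, 60),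
  (true, 58), (false, 18), (false, 0), (true, 54), (false, 52)], .cnt 0 [0], .cell [(true, 62), (true, 57), (false,
  2), (true, 51), (false, 16), (true, 50)], .cnt 0 [0], .cell [(true, 64), (true, 62), (false, 18), (false, 6),
  (false, 46), (false, 59)], .cnt 0 [0], .cell [(true, 66), (true, 64), (false, 24), (false, 6), (false, 52), (true,
  55)], .cnt 0 [0], .cell [(true, 68), (true, 66), (true, 57), (false, 18), (true, 63), (false, 56)], .cnt 0 [0],
  .cell [(true, 68), (true, 58), (false, 42), (false, 10), (true, 65), (false, 50)], .cnt 0 [0], .cell [(true, 70),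
  (true, 61), (false, 20), (true, 67), (false, 58), (false, 50)], .cnt 0 [0], .cell [(true, 74), (true, 71), (false,
  0), (false, 36), (true, 69), (false, 72)], .cnt 0 [0], .cell [(true, 76), (true, 71), (true, 65), (false, 58),
  (true, 64), (false, 12), (false, 74), (false, 73), (true, 2), (true, 8)], .cnt 0 [0], .cell [(true, 76), (true, 66),
  (false, 50), (false, 14), (false, 20)], .cnt 0 [0], .cell [(true, 78), (false, 34), (false, 66), (false, 52),
  (false, 64), (true, 75)], .cnt 0 [0], .cell [(true, 78), (false, 30), (true, 76), (false, 68)], .cnt 0 [0], .cell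
  [(true, 84), (true, 82), (false, 48), (false, 16), (false, 70), (false, 81)], .cnt 0 [0], .cell [(true, 86), (true,
  84), (false, 8), (false, 72), (false, 70), (true, 68)], .cnt 0 [0], .cell [(true, 88), (true, 86), (false, 48),
  (false, 22), (false, 74), (false, 85)], .cnt 0 [0], .cell [(true, 88), (false, 48), (false, 76), (false, 46),
  (false, 74), (true, 84)], .cnt 0 [0], .cell [(true, 92), (true, 90), (false, 46), (false, 34), (true, 80)], .cnt 0
  [0], .cell [(true, 94), (true, 91), (false, 36), (true, 83), (false, 44), (false, 82)], .cnt 0 [0], .cell [(true,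
  96), (true, 93), (false, 82), (false, 64), (false, 78), (false, 91)], .cnt 0 [0], .cell [(true, 96), (true, 95),
  (true, 87), (false, 78), (false, 24)], .cnt 0 [0], .cell [(true, 100), (true, 92), (false, 48), (true, 88), (false,
  30), (false, 82)], .cnt 0 [0], .cell [(true, 102), (true, 91), (false, 42), (false, 52), (false, 24), (false, 80)],
  .cnt 0 [0], .cell [(true, 104), (true, 102), (false, 4), (false, 10), (false, 0), (true, 99)], .cnt 0 [0], .cell
  [(true, 106), (true, 104), (false, 8), (true, 95), (false, 62), (false, 94)], .cnt 0 [0], .cell [(true, 108),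
  (false, 94), (false, 4), (false, 54), (true, 97), (true, 80), (true, 96)], .cnt 0 [0], .cell [(true, 110), (true,
  108), (false, 0), (false, 10), (true, 105), (false, 104)], .cnt 0 [0], .cell [(true, 110), (true, 100), (false, 84),
  (false, 68), (false, 60), (false, 101)], .cnt 0 [0], .cell [(true, 114), (true, 112), (false, 4), (true, 108),
  (true, 102), (false, 62)], .cnt 0 [0], .cell [(true, 116), (false, 102), (false, 12), (false, 62), (true, 105),
  (false, 104)], .cnt 0 [0], .cell [(true, 116), (false, 0), (false, 92), (false, 100), (false, 66), (false, 118)],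
  .cnt 0 [0], .cell [(true, 120), (true, 117), (false, 2), (true, 115), (false, 24), (false, 108), (false, 118),
  (false, 114), (true, 8), (true, 14), (true, 0)], .cnt 0 [0], .cell [(true, 122), (true, 119), (false, 4), (true,
  111), (true, 117), (false, 26)], .cnt 0 [0], .cell [(true, 124), (false, 44), (true, 113), (false, 108), (false,
  90), (false, 112)], .cnt 0 [0], .cell [(true, 124), (true, 115), (false, 74), (true, 121), (false, 0)], .cnt 0 [0],
  .cell [(true, 128), (false, 28), (false, 36), (true, 120), (false, 52), (false, 126), (false, 117)], .cnt 0 [0],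
  .cell [(true, 130), (false, 2), (false, 52), (true, 122), (false, 18), (true, 119)], .cnt 0 [0], .cell [(true, 132),
  (true, 129), (false, 2), (false, 94), (false, 116), (false, 126)], .cnt 0 [0], .cell [(true, 134), (true, 132),
  (false, 4), (false, 10), (false, 0)], .cnt 0 [0], .cell [(true, 136), (false, 62), (false, 8), (false, 38), (true,
  40), (false, 134), (false, 2)], .cnt 0 [0], .cell [(true, 133), (true, 130), (false, 28), (false, 54), (false, 98),
  (false, 139)], .cnt 0 [0], .cell [(true, 135), (true, 132), (false, 24), (false, 52), (false, 0)], .cnt 0 [0], .cell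
  [(true, 137), (true, 134), (false, 44), (false, 56), (false, 80), (false, 143)], .cnt 0 [0], .cell [(true, 142),
  (true, 141), (false, 102), (false, 98), (false, 14)], .cnt 0 [0], .cell [(true, 140), (true, 138), (false, 22),
  (false, 0), (false, 94), (false, 146)], .cnt 0 [0], .cell [(true, 140), (false, 106), (false, 74), (false, 114),
  (false, 143), (true, 134)], .cnt 0 [0], .cell [(true, 148), (true, 147), (false, 108), (false, 78), (false, 0)],
  .cnt 0 [0], .cell [(true, 145), (true, 134), (false, 144)], .cnt 0 [0], .cell [(true, 152), (true, 142), (false,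
  78), (false, 2), (false, 54)], .cnt 0 [0], .cell [(true, 154), (false, 108), (false, 58), (false, 82), (false, 26),
  (false, 151)], .cnt 0 [0], .fin [158, 156, 155, 10, 18, 147, 134, 86, 76, 84, 78, 88, 116, 120, 114, 124, 16, 60,
  12, 44, 68, 149, 8, 40, 2, 146, 22, 52, 0, 36, 70, 24, 62, 26, 38, 118, 6, 102, 4, 50, 56, 14, 20]] 6635519 = true
  := by decide +kernel

theorem hs : evC ([17] ++ [8]) = evC ([8] ++ [17]) := by decide +kernel

theorem h3 : eqF (flat [17]) ws = true := by decide +kernel

theorem h4 : neF (ws ++ cj wc wm) (cj wc wm ++ ws) = true := by decide +kernel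

theorem cent : Nat.card (centralizer ({g wm} : Set G)) ≤ 9953280 :=
  cent2 h1 h2 hc (by decide +kernel) hb hs h3 h4 (by norm_num)

theorem ty : TyB 27 (g wm) := (tyB_iff sg_6I _).2 ⟨orderOf_of_ordF ord,
  List.forall_mem_cons.2 ⟨tr_one ch_m,
  List.forall_mem_cons.2 ⟨tr_yy h2,
  List.forall_mem_cons.2 ⟨tr_pw l3 ch_v3,
  List.forall_mem_nil _⟩⟩⟩⟩

end Cfsg.Agent.TAB.B.C3.T6I

namespace Cfsg.Agent.TAB.B.C3

theorem boxC_6I : BoxCB 27 := boxC_of T6I.ty T6I.cent cnt_6I (by norm_num)

end Cfsg.Agent.TAB.B.C3
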