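import Cfsg.Agent.TAB.B.C3.Use

/-!
# The type 6J of the Baby Monster (helper84, TAB; generated)
-/

set_option autoImplicit false
set_option maxRecDepth 100000
set_option Elab.async false

namespace Cfsg.Agent.TAB.B.C3.T6J

open Subgroup Cfsg.Agent.BabyM.Conc Cfsg.Agent.BabyM.TransInv Cfsg.Agent.H819.U33 Cfsg.Agent.BMx.Fast
  Cfsg.Agent.TAB.B.Tr Cfsg.Agent.H123.Cls Cfsg.Agent.TAB.Eng
open Cfsg.Agent.H863.U33 (wy1)

/-- word -/
def wm : List Ltr := [.Z8, .Z7, .Z4, .Z3, .Z1, .X10, .X6, .X3, .X0, .y9, .y8, .y6, .y3, .p9, .hi, .p7, .hi, .p7, .hi, .p6, .hi, .p5, .hi, .p10, .hi, .xii, .y2, .p3, .hi, .X0, .y1]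

/-- plane -/
def pm_0 : ℕ := 0x7520821c801c75255e82205120515ed2faa5cfca4aeeb0e7ee4eb5b8a5fa4a6ed100045e465ed1001c0420f524f51c0438f55aa77e027aa583dbe57ae720a75e40c15f425f0040c1001de544e540001da57a027ea75ebd385aa720e77aa55b832de51500150228e55257c108c1080257e6a4af5a8b5ba4ee7a0beea4acfc5aaf00240018001800240042008000800042d398803d803dc3983d8188d388d33c81c8904b864b86c8908c09b468b4688c099b0a81b981389b0ab9a0189b1883b9a090c8864b864b90c8098c68b468b4098c0a9b3881b9810a9ba0b983189b18a0b92400080008002400420081008100420018c33d883d8818d3893cd308d308893d0000000000000000000000000000000000000000000000000000000000000000000000000000000000000000000000000000000000000000000000000000000000000000000000000000000000000000000000000000000000000000000000000000000000000000000000000000000000000000000000000000000000000000fb7fa7e5bff5daefedf67ffefede6ff6b7fddb697bfef73ffffbf7ceffcfcdb33eeedf2fff7ffefffdd7eb9e4fb67df7aea7df5ed2ddeee37e53a3bcb9bc7c57db9b679765a5581af4b91eccb2dba5a5b9b478577ef6fb9cd2ddeee3f66397e94b12a1a5a3e44e1aac29125a1a5885a1a7874b12599621a43e4894298521164a000000000000000000000000000000000000000000000000000000000000000000000000000000000000000000000000000000000000000000000000000000000000000000000000000000000000000000000000004ad01e007feffe006ffffc000000000000341cfee299ffde06999952a000002c430200db6e240041020203f09c93dc00210850ae59bf7fccff24800002251220020c41ffaadff2a404ebd488b120209fff243c69280000850864c50420600944aa030008231308000402900800500a18884210884461176969d31e0900050041000000fdbf200088880800ff55000040a4c4083d3eff001881502080852008b66dd33e0420600000228000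

/-- plane -/
def pm_1 : ℕ := 0xa42150385038a42062120581058162029a7e6609c289903c89e36680249a08c7832400020002832418420022002218420406e5c1c5401c0440641e1c1c04c1c0248122002200248142382000200042380c1c40c1c1e1460440c1045c1c5e60402026185018502126024a83058305124a7c80a94208663e98c309982c9066e7a95ac366ef66ef5ac3b53c66fe66feb53cfffec2ffc2ffe7feffe7acffacff7ee7b67415211521b6746b47511251126b47b72cc67bc67ab72c7bc26cb76ca77bc274b62115211574b6476b12511251476b2cb77ac67bc62cb7c27ba76cb76cc27bc35bef66ef66c35b3ca5fe66fe663ca57ee7ffcaffca7effef7eff2cff2cefff0000000000000000000000000000000000000000000000000000000000000000000000000000000000000000000000000000000000000000000000000000000000000000000000000000000000000000000000000000000000000000000000000000000000000000000000000000000000000000000000000000000000000000000000000000000000000000000000000000000000000000000000000000000000000000000000000000000000000000000000000000000000001000000000000000000000000000000000000000000000000000800000400000000008100000002000000000000000000080000000100040800180011048000408100010010000000000000000000000000000000000000000000000000000000000000000000000000000000000000000000000000000000000000000000000000000000000000000000000000000000000000000000000000000109678000000000000000000000000000000000000000000000000000000000000dd00000081240240102000000000330012081002000011001000299400000080000000000000000004082208050500000000000003000000000000020000000000000000000033480000077000002000000100008000000000002020000000c00661024012040000002000880600000002a202010044000000000000081001800cc02184801051003648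

/-- plane -/
def pm_2 : ℕ := 0x20400000200020400402002000200400400104034400402401008044204403000004220402000002000040024002000020800002000004200004000420200200002004200400002000002040224000002002024000400002400000200008020040020002002040040200020000040200304402440800104204004430401004000000000000000000000000100010000000024002400000000004200420000000100000000000100100000000000100000400000008000400004000000080004000100000000000100100000000000104000800000004000040008000000040000001000100000000000000000000000000000240024000000000042004200000000000000000000000000000000000000000000000000000000000000000000000000000000000000000000000000000000000000000000000000000000000000000000000000000000000000000000000000000000000000000000000000000000000000000000000000000000000000000000000000000000000000000000000000000000000000000000000000000000000000000000000000000000000000000000000000000000000000000000000000000000000000000000000000000000000000000000000000000000000000000000000000000000000000000000000000000000000000000000000000000000000000000000000000000000000000000000000000000000000000000000000000000000000000000000000000000000000000000000000000000000000000000000000000000000000000000000000000000000000000000000000000000000000000040880000000000000000000000000000000000000000000000000000000000000000000000000000000000000000000000000000000000000000000000000000000000000000000000000000000000000000000000000000000000000000000000000000000000000000000000000000000000000000000000000000000000000000000000000000000000000000000000000000000000000000000000000000000000000000000000000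

theorem cm_0 : trF wm 4 [pm_0, pm_1, pm_2] U (4) = true := by decide +kernel

theorem ch_m : chB (g wm) = ((1 : ℤ) : ℚ) := chB_of (dg_of_trF cm_0) (by decide) (by decide)

/-- word -/
def wv3 : List Ltr := [.z, .Z8, .Z7, .Z0, .X10, .X6, .X4, .X3, .X1, .y8, .y7, .y6, .hi, .p9, .hi, .p9, .hi, .p, .hi, .p7, .hi, .p7, .hi, .p10]

/-- plane -/
def pv3_0 : ℕ := 0xffffffffffffffffffffffffffffffffffffffffffffffffffffffffffffffffffffffffffffffffffffffffffffffffffffffffffffffffffffffffffffffffffffffffffffffffffffffffffffffffffffffffffffffffffffffffffffffffffffffffffffffffffffffffffffffffffffffffffffffffffffffffffffffff00000000000000000000000000000000000000000000000000000000000000000000000000000000000000000000000000000000000000000000000000000000000000000000000000000000000000000000000000000000000000000000000000000000000000000000000000000000000000000000000000000000000000000000000000000000000000000000000000000000000000000000000000000000000000000000000000000000000000000000000000000000000000000000000000000000000000000000000000000000000000000000000000000000000000000000000000000000000000000000000000000000000000000000000000000000edfff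fffffffdeededffdeededdedeedb77b7ba5a55a7bb7a55a7ba5a55a5aa55aa5a5484884a55a4884a5484884844800212112122100000021000000000000ffffff7b7bb7ffff7bb7ff7b7bb7b77b5aededdedeeda55a5aeda55a5aa5a55a215a5aa5a55a1221215a12212112122184484800000048840000480000000000000000000000000000000000000000000000000000000000000000000000000000000000000000000000000000000000000000000000000000000000000000000000000000000000000000000000000000000000003e0290003e139c00220280000000000000b320ffffffffffffffffffffffffffffffff00006d400000b910000000000000000000000000e3200000ffffffffffffffffffff7a40ffffffffffffffffffffffff0000ffff8f08ffffffffbc100000ffff0000ffff0000ffff000060d4ffff0000ffffffff000000000000ffff0000ffffffff0000fffff8800000f8800000f808f40400000000000000000000000000000000000000000000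

theorem cv3_0 : trF wv3 1 [pv3_0] U (19) = true := by decide +kernel

theorem ch_v3 : chB (g wv3) = ((19 : ℤ) : ℚ) := chB_of (dg_of_trF cv3_0) (by decide) (by decide)

/-- word -/
def c3 : List Ltr := [.Z8, .Z7, .Z4, .Z3, .Z0, .X10, .X8, .X7, .X5, .X4, .X3, .X2, .X1, .X0, .y9, .y8, .y6, .y4, .y3,
  .hi, .p, .hi, .p10, .hi, .p6, .hi, .p6, .hi, .p9, .xii, .p, .hi, .p2, .xii]

theorem l3 : eqF (cj c3 wv3) (pw wm 3) = true := by decide +kernel

/-- word -/
def wc : List Ltr := [.Z10, .Z9, .Z8, .Z6, .Z5, .Z4, .X10, .X9, .X8, .X6, .X5, .X4, .X3, .X1, .y9, .y2, .p7, .hi, .p7,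
  .hi, .p6, .hi, .p3, .hi, .p4, .hi, .p2, .hi, .xii, .p10, .xii, .y1, .p8, .taui, .X0, .p7, .xii, .p, .hi, .xii, .y5,
  .y9, .p3, .X0, .p8, .xii, .p4, .xii, .y4, .y10, .tau, .xii, .p10, .hi, .p6, .hi, .p7]

/-- word -/
def ws : List Ltr := [.Z9, .Z7, .Z4, .X9, .X8, .X3, .y10, .y8, .y3, .y2, .y1, .p10, .hi, .p10, .hi, .p3, .hi, .p9,
  .hi, .p, .xii, .y2, .hi, .p4, .hi, .p4, .taui, .X0, .y1, .p6, .xii, .p, .xii, .xii, .p, .xii, .y5, .tau, .xii, .p5,
  .xii, .p10, .y7, .hi, .p9, .tau]

theorem ord : ordF wm 6 = true := by decide +kernel

theorem h1 : eqF (cj wc wm) (flat [8, 11, 15, 15, 15] ++ pw wy1 2) = true := by decide +kernel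

theorem h2 : or (eqF (cj wc (pw wm 2)) wy1) (eqF (cj wc (pw wm 2)) (winv wy1)) = true := by decide +kernel

/-- the columns -/
def cs : List ℕ := [528384, 266240, 130, 129, 33554432, 2147483648, 137438953472, 8796093022208, 281474976710656]

theorem hc : evC [8, 11, 15, 15, 15] = cs := by decide +kernel

theorem hb : chkB 6561 13 row 13 (tab cs) [(false, 1), (true, 1)] [.cell [(false, 0), (false, 1)], .base 0 82 2, .cell
  [(true, 4), (true, 1)], .base 0 0 1, .cell [(true, 1), (true, 0)], .cnt 0 [0], .cell [(true, 5), (true, 2), (true,
  7), (true, 0), (false, 4)], .base 0 810 2, .cell [(true, 7), (true, 1), (false, 3), (true, 0), (false, 5), (false,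
  8)], .base 0 945 2, .cell [(true, 14), (true, 1), (false, 11)], .cnt 0 [0], .cell [(true, 13), (true, 12), (true,
  2), (true, 10), (true, 5), (true, 15)], .cnt 0 [0], .cell [(true, 14), (false, 2), (false, 0), (true, 5), (true,
  17), (false, 8), (true, 12)], .cnt 0 [0], .cell [(true, 17), (false, 4), (false, 2), (true, 19), (true, 6), (false,
  0)], .cnt 0 [0], .cell [(true, 18), (true, 8), (false, 2), (false, 6), (false, 14), (true, 4)], .cnt 0 [0], .cell
  [(true, 21), (false, 8), (false, 0), (true, 23), (true, 10), (true, 18), (false, 2)], .cnt 0 [0], .cell [(true, 22),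
  (false, 10), (false, 0), (true, 13), (false, 6), (false, 12)], .cnt 0 [0], .cell [(true, 25), (true, 15), (false,
  4), (false, 20), (false, 6), (true, 10)], .cnt 0 [0], .cell [(true, 27), (false, 2), (true, 20), (false, 8), (true,
  24), (false, 29)], .cnt 0 [0], .cell [(true, 26), (false, 16), (false, 0), (false, 4), (false, 29), (true, 31),
  (false, 22), (false, 18), (false, 19)], .cnt 0 [0], .cell [(true, 34), (false, 2), (false, 31)], .cnt 0 [0], .cell
  [(true, 30), (true, 23), (false, 12), (false, 4), (false, 28), (false, 33), (false, 32)], .cnt 0 [0], .cell [(true,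
  35), (true, 25), (true, 24), (true, 32), (true, 28), (false, 20), (true, 14)], .cnt 0 [0], .cell [(true, 34), (true,
  27), (false, 16), (true, 30), (false, 32), (false, 0)], .cnt 0 [0], .cell [(true, 42), (false, 2), (false, 39)],
  .cnt 0 [0], .cell [(true, 41), (false, 28), (true, 34), (true, 38), (true, 30), (false, 43)], .cnt 0 [0], .cell
  [(true, 40), (true, 32), (false, 2), (false, 0), (false, 8), (true, 45), (false, 43)], .cnt 0 [0], .cell [(true,
  42), (true, 35), (false, 4), (false, 2), (false, 28), (false, 45), (false, 48)], .cnt 0 [0], .cell [(true, 44),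
  (true, 40), (false, 34), (false, 4), (false, 12), (false, 46)], .cnt 0 [0], .cell [(true, 48), (true, 42), (false,
  16), (false, 30), (true, 46), (false, 6)], .cnt 0 [0], .cell [(true, 50), (true, 44), (false, 18), (false, 32),
  (true, 48), (true, 8)], .cnt 0 [0], .cell [(true, 53), (true, 43), (false, 32), (false, 38), (true, 50), (true,
  46)], .cnt 0 [0], .cell [(true, 58), (false, 0), (false, 55)], .cnt 0 [0], .cell [(true, 57), (false, 4), (true,
  46), (true, 54), (false, 42), (false, 59)], .cnt 0 [0], .cell [(true, 59), (true, 58), (false, 42), (false, 14),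
  (false, 16), (false, 62)], .cnt 0 [0], .cell [(true, 61), (true, 53), (false, 16), (false, 2), (false, 34), (false,
  54)], .cnt 0 [0], .cell [(true, 63), (true, 55), (false, 32), (false, 30), (true, 50), (false, 2)], .cnt 0 [0],
  .cell [(true, 65), (false, 52), (false, 4), (false, 14), (false, 22), (false, 57), (false, 55), (true, 48), (true,
  8), (true, 26)], .cnt 0 [0], .cell [(true, 67), (true, 57), (false, 22), (false, 52), (true, 54), (false, 24),
  (true, 56)], .cnt 0 [0], .cell [(true, 72), (false, 69), (true, 0), (false, 59), (false, 29), (false, 13), (false,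
  37)], .cnt 0 [0], .cell [(true, 71), (true, 68), (true, 60), (false, 8), (false, 56), (false, 61), (false, 29),
  (false, 13), (false, 43), (true, 0)], .cnt 0 [0], .cell [(true, 73), (true, 63), (false, 28), (false, 4), (false,
  14), (true, 60)], .cnt 0 [0], .cell [(true, 75), (true, 74), (false, 4), (true, 72), (true, 68)], .cnt 0 [0], .cell
  [(true, 77), (true, 76), (false, 36), (true, 74), (true, 70)], .cnt 0 [0], .cell [(true, 79), (false, 38), (false,
  10), (false, 74), (true, 40)], .cnt 0 [0], .cell [(true, 81), (true, 80), (false, 48), (false, 14), (false, 64)],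
  .cnt 0 [0], .cell [(true, 83), (true, 82), (false, 66), (false, 64), (true, 73), (false, 86)], .cnt 0 [0], .cell
  [(true, 85), (true, 84), (false, 66), (false, 22), (false, 0), (false, 87)], .cnt 0 [0], .cell [(true, 87), (true,
  86), (false, 54), (false, 72), (true, 84), (false, 80)], .cnt 0 [0], .cell [(true, 89), (true, 88), (false, 48),
  (true, 86), (true, 81)], .cnt 0 [0], .cell [(true, 91), (true, 90), (false, 78), (true, 88), (false, 0)], .cnt 0
  [0], .cell [(true, 92), (false, 48), (false, 6), (false, 10), (false, 24)], .cnt 0 [0], .cell [(true, 94), (true,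
  84), (false, 30), (false, 54), (false, 2)], .cnt 0 [0], .cell [(true, 96), (true, 86), (false, 32), (false, 50),
  (false, 84)], .cnt 0 [0], .cell [(true, 89), (false, 8), (false, 36), (false, 58), (false, 54), (false, 92)], .cnt 0
  [0], .cell [(true, 101), (false, 0), (false, 96), (false, 10), (false, 58), (true, 60)], .cnt 0 [0], .cell [(true,
  102), (true, 92), (false, 38), (true, 100), (false, 4), (false, 0)], .cnt 0 [0], .cell [(true, 105), (true, 95),
  (false, 8), (false, 42), (false, 82), (false, 104), (false, 94)], .cnt 0 [0], .cell [(true, 107), (true, 106),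
  (false, 90), (false, 0), (false, 28), (true, 109)], .cnt 0 [0], .cell [(true, 109), (false, 78), (false, 18),
  (false, 2), (false, 94), (false, 111)], .cnt 0 [0], .cell [(true, 110), (false, 66), (false, 0), (false, 42), (true,
  108)], .cnt 0 [0], .cell [(true, 113), (false, 68), (false, 16), (false, 86), (true, 102), (false, 108), (false,
  103)], .cnt 0 [0], .cell [(true, 115), (true, 114), (false, 98), (false, 96), (false, 0), (false, 72)], .cnt 0 [0],
  .cell [(true, 117), (true, 107), (false, 86), (false, 0), (false, 52), (false, 2)], .cnt 0 [0], .cell [(true, 118),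
  (false, 74), (false, 0), (false, 20), (false, 40)], .cnt 0 [0], .cell [(true, 121), (true, 111), (false, 72),
  (false, 30), (false, 54), (true, 14)], .cnt 0 [0], .cell [(true, 122), (false, 78), (false, 22), (false, 0), (true,
  120)], .cnt 0 [0], .cell [(true, 125), (true, 115), (false, 12), (true, 114), (false, 64), (true, 110)], .cnt 0 [0],
  .cell [(true, 127), (true, 124), (false, 64), (false, 4), (false, 104), (false, 117), (false, 129), (false, 126),
  (false, 25), (true, 14), (true, 2)], .cnt 0 [0], .cell [(true, 129), (false, 98), (false, 6), (false, 64), (false,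
  40), (false, 119), (false, 131), (false, 122), (false, 19), (true, 2), (true, 24)], .cnt 0 [0], .cell [(true, 131),
  (false, 86), (false, 6), (false, 2), (false, 0), (true, 118)], .cnt 0 [0], .cell [(true, 130), (true, 123), (false,
  70), (false, 24), (true, 135), (false, 132)], .cnt 0 [0], .cell [(true, 135), (false, 0), (false, 40), (false, 130),
  (true, 132), (true, 128)], .cnt 0 [0], .cell [(true, 134), (false, 74), (false, 106), (false, 18), (false, 2),
  (true, 130)], .cnt 0 [0], .cell [(true, 136), (false, 70), (false, 98), (false, 102), (false, 62), (false, 139),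
  (true, 132)], .cnt 0 [0], .cell [(true, 140), (true, 134), (false, 122), (false, 14), (false, 96)], .cnt 0 [0],
  .cell [(true, 143), (true, 133), (false, 30), (false, 54), (false, 2)], .cnt 0 [0], .cell [(true, 145), (true, 137),
  (false, 6), (false, 130), (true, 102), (true, 132)], .cnt 0 [0], .cell [(true, 146), (true, 136), (false, 12),
  (false, 18), (false, 106)], .cnt 0 [0], .cell [(true, 138), (false, 58), (false, 6), (false, 2), (false, 72)], .cnt
  0 [0], .cell [(true, 151), (false, 110), (false, 56), (false, 8), (true, 140), (false, 150)], .cnt 0 [0], .cell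
  [(true, 153), (false, 140), (false, 40), (false, 98), (false, 18), (false, 156)], .cnt 0 [0], .cell [(true, 148),
  (false, 66), (false, 114), (false, 0), (false, 10)], .cnt 0 [0], .cell [(true, 157), (true, 149), (false, 100),
  (false, 106), (false, 4), (true, 154)], .cnt 0 [0], .cell [(true, 158), (true, 152), (false, 136), (false, 4),
  (false, 146)], .cnt 0 [0], .cell [(true, 154), (false, 156), (false, 94), (false, 12), (false, 118), (false, 161)],
  .cnt 0 [0], .fin [165, 163, 162, 150, 106, 122, 92, 0, 134, 90, 104, 108, 28, 30, 120, 152, 153, 26, 82, 16, 48, 2,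
  155, 56, 12, 42, 22, 6, 68, 10, 4, 20, 66, 14, 84, 18, 130, 88, 8]] 331775 = true := by decide +kernel

theorem hs : evC ([11, 16, 17, 15, 16, 16] ++ [8, 11, 15, 15, 15]) = evC ([8, 11, 15, 15, 15] ++ [11, 16, 17, 15, 16,
  16]) := by decide +kernel

theorem h3 : eqF (flat [11, 16, 17, 15, 16, 16]) ws = true := by decide +kernel

theorem h4 : neF (ws ++ cj wc wm) (cj wc wm ++ ws) = true := by decide +kernel

theorem cent : Nat.card (centralizer ({g wm} : Set G)) ≤ 497664 :=
  cent2 h1 h2 hc (by decide +kernel) hb hs h3 h4 (by norm_num)

theorem ty : TyB 28 (g wm) := (tyB_iff sg_6J _).2 ⟨orderOf_of_ordF ord,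
  List.forall_mem_cons.2 ⟨tr_one ch_m,
  List.forall_mem_cons.2 ⟨tr_yy h2,
  List.forall_mem_cons.2 ⟨tr_pw l3 ch_v3,
  List.forall_mem_nil _⟩⟩⟩⟩

end Cfsg.Agent.TAB.B.C3.T6J

namespace Cfsg.Agent.TAB.B.C3

theorem boxC_6J : BoxCB 28 := boxC_of T6J.ty T6J.cent cnt_6J (by norm_num)

end Cfsg.Agent.TAB.B.C3
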