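import Cfsg.Agent.TAB.B.C3.Use

/-!
# The type 6K of the Baby Monster (helper84, TAB; generated)
-/

set_option autoImplicit false
set_option maxRecDepth 100000
set_option Elab.async false

namespace Cfsg.Agent.TAB.B.C3.T6K

open Subgroup Cfsg.Agent.BabyM.Conc Cfsg.Agent.BabyM.TransInv Cfsg.Agent.H819.U33 Cfsg.Agent.BMx.Fast
  Cfsg.Agent.TAB.B.Tr Cfsg.Agent.H123.Cls Cfsg.Agent.TAB.Eng
open Cfsg.Agent.H863.U33 (wy1)

/-- word -/
def wm : List Ltr := [.z, .Z10, .Z9, .Z7, .Z3, .X9, .X5, .X3, .X0, .y10, .y6, .y2, .y1, .p5, .hi, .p5, .hi, .p6, .hi, .p6, .taui, .X0, .p5, .hi, .p5]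

/-- plane -/
def pm_0 : ℕ := 0xffffffffffffffffffffffffffffffffffffffffffffffffffffffffffffffffffffffffffffffffffffffffffffffffffffffffffffffffffffffffffffffffffffffffffffffffffffffffffffffffffffffffffffffffffffffffffffffffffffffffffffffffffffffffffffffffffffffffffffffffffffffffffffffff00000000000000000000000000000000000000000000000000000000000000000000000000000000000000000000000000000000000000000000000000000000000000000000000000000000000000000000000000000000000000000000000000000000000000000000000000000000000000000000000000000000000000000000000000000000000000000000000000000000000000000000000000000000000000000000000000000000000000000000000000000000000000000000000000000000000000000000000000000000000000000000000000000000000000000000000000000000000000000000000000000000000000000000000000000000000000000000000000000000000000000000000000000000000000000000000000000000000000000000000000000000000000000000000000000000000000000000000000000000000000000000000000000000007c4d10007c4d10007c4d10000000000000ffffffffffffffff0000ffffffffffffffffffffffffffff0000ffffffffffffffffffffffffffff00000000ffffffffffff0000ffffffffffffffffffff000000000000000000000000ffffffffffffffffffffffff000000000000ffff000000000000ffffffff00000000000000000000000000000000000000000000000000000000000000000000aaaa000000000000ffff000000000000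

/-- plane -/
def pm_1 : ℕ := 0xffffffffffffffffffffffffffffffffffffffffffffffffffffffffffffffffffffffffffffffffffffffffffffffffffffffffffffffffffffffffffffffffffffffffffffffffffffffffffffffffffffffffffffffffffffffffffffffffffffffffffffffffffffffffffffffffffffffffffffffffffffffffffffffff0000000000000000000000000000000000000000000000000000000000000000000000000000000000000000000000000000000000000000000000000000000000000000000000000000000000000000000000000000000000000000000000000000000000000000000000000000000000000000000000000000000000000000000000000000000000000000000000000000000000000000000000000000000000000000000000000000000000000000000000000000000000000000000000000000000000000000000000000000000000000000000000000000000000000000000000000000000000000000000000000000000000000000000000000000000000000000000000000000000000000000000000000000000000000000000000000000000000000000000000000000000000000000000000000000000000000000000000000000000000000000000000000000000000000000000000000000000000000000000000000000000000000000000000000000000000000000000000000000000000000000000000000000000000000000000000000000000000000000000000000000000000000000000000000000000000000000000000000000000000000000000000000000000000000000000000000001800000018000000180000000000000000000000000000000ffff00000000000000000000000000000000000000000000000000000000000000000000000000000000ffff000000000000000000000000000000000000000000000000000000000000000000000000ffff000000000000000000000000000000000000000000000000000000000000000000000000000000000000000000000000cccc0000ffff00000000000000000000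

/-- plane -/
def pm_2 : ℕ := 0xf0f00000000000000000000000000000

/-- plane -/
def pm_3 : ℕ := 0xff000000000000000000000000000000

theorem cm_0 : trF wm 4 [pm_0, pm_1, pm_2, pm_3] U (4) = true := by decide +kernel

theorem ch_m : chB (g wm) = ((1 : ℤ) : ℚ) := chB_of (dg_of_trF cm_0) (by decide) (by decide)

/-- word -/
def wv3 : List Ltr := [.Z10, .Z9, .Z8, .Z5, .Z4, .Z3, .Z2, .Z1, .Z0, .X9, .X7, .X5, .X4, .X3, .X1, .y10, .y9, .y8, .y7, .y6, .y5, .y4, .y3, .y2, .p7, .hi, .p3, .hi, .p, .hi, .p3, .hi, .p5, .y1]

/-- plane -/
def pv3_0 : ℕ := 0xf7fdffffffffffffffffffffdd77fbfef7fdffffeebb77ddbbeedd77dd77fbfebbeedd77dd77b3ec73dccc33eebb77dd33cccc33dd77b3ec73dccc33cc3333cccc3333cc33ccc431c832114433cccc334411228833ccc431c8321144114488228020114411448822441122880000401080201144000000000000000000004010ffffffddffffffffffffffffffeedd77ffffffdd77ddeebbdd77bbeeffeedd77dd77bbeebbccdd77cc3377cc77ddeebbcc3333ccbbccdd77cc3377cc33cccc3333cccc33cc1133cc1144cc22cc3333cc22884411cc1133cc1144cc22882211441144880088221144228844114400000011448800000000000000000044000000000000000000000000000000000000000000000000000000000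0000000000000000000000000000000000000000000000000000000000000000000000000000000000000000000000000000000000000000000000000000000000000000000000000000000000000000000000000000000000000000000000000000000000000ffffffddffffffffffffffffffeedd77ffffffdd77ddeebbdd77bbeeffeedd77dd77bbeebbccdd77cc3377cc77ddeebbcc3333ccbbccdd77cc3377cc33cccc3333cccc33cc1133cc1144cc22cc3333cc22884411cc1133cc1144cc22882211441144880088221144228844114400000011448800000000000000000044000000000000000000000000000000000000000000000000000000000000000000000000000000000000000000000000000000000000000000000000000000000000000000000000000000000000000000000000000000007c0520007fd72600280120000000000000ffffffffffffffff7940ffffffffffffffffffffffffc0e250d8ffffffffffffffffffffffffffff00000000ffffffffffffd680ffffffffe4a0ffffffffffff000000000000ffff0000ffffffff0000ffffffff00000000b8c00000b6400000f440e860ffffffff00000000000000000000000000000000000000000000000000000000000000000000cccc0000da800000f044000000005e40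

theorem cv3_0 : trF wv3 1 [pv3_0] U (-53) = true := by decide +kernel

theorem ch_v3 : chB (g wv3) = ((-53 : ℤ) : ℚ) := chB_of (dg_of_trF cv3_0) (by decide) (by decide)

/-- word -/
def c3 : List Ltr := []

theorem l3 : eqF (cj c3 wv3) (pw wm 3) = true := by decide +kernel

/-- word -/
def wc : List Ltr := [.z, .Z8, .Z7, .Z5, .Z4, .Z2, .Z0, .X10, .X9, .X7, .X6, .X4, .X3, .X2, .y10, .y8, .y7, .y5, .y3,
  .y1, .p5, .hi, .p6, .hi, .p9, .hi, .p5, .hi, .p9, .hi, .p10, .xii, .p10, .xii, .y9, .p8, .xii, .taui, .xii, .p,
  .xii, .hi, .y8, .xii, .y5, .y10, .taui, .xii, .y1, .p, .xii, .p, .xii, .y1, .taui, .p7, .xii, .hi, .xii, .y8, .tau,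
  .xii, .p8, .xii, .y1, .y5, .p4, .xii, .y1, .taui, .xii, .p5, .hi, .p10]

/-- word -/
def ws : List Ltr := [.Z10, .Z7, .X10, .X9, .X8, .X6, .X5, .X3, .X2, .X1, .X0, .y10, .y9, .y8, .y3, .y1, .p9, .hi,
  .p5, .hi, .p8, .hi, .p6, .hi, .p9, .hi, .p9, .hi, .p4, .xii, .tau, .xii, .y1, .p, .xii, .y1, .y4, .X0, .p10, .xii,
  .y6, .tau]

theorem ord : ordF wm 6 = true := by decide +kernel

theorem h1 : eqF (cj wc wm) (flat [9, 16, 16] ++ pw wy1 0) = true := by decide +kernel

theorem h2 : or (eqF (cj wc (pw wm 2)) wy1) (eqF (cj wc (pw wm 2)) (winv wy1)) = true := by decide +kernel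

/-- the columns -/
def cs : List ℕ := [2, 128, 4466765987840, 8864812498944, 16777216, 1073741824, 532480, 270336, 281474976710656]

theorem hc : evC [9, 16, 16] = cs := by decide +kernel

theorem hb : chkB 6561 13 row 13 (tab cs) [(false, 1), (true, 1)] [.cell [(false, 0), (false, 1)], .base 0 10 2, .cell
  [(true, 4), (true, 1)], .cnt 0 [0, 1, 2, 3, 4, 5, 8], .cell [(true, 11), (true, 9), (true, 8), (false, 3)], .base 0
  3 2, .cell [(true, 15), (true, 7), (false, 12), (true, 1)], .base 0 405 1, .cell [(true, 12), (true, 0), (true, 3)],
  .cnt 0 [0], .cell [(true, 11), (true, 18), (true, 16), (true, 5)], .cnt 0 [0], .cell [(true, 18), (true, 17), (true,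
  7), (false, 0), (false, 4), (false, 12), (true, 6), (false, 14)], .cnt 0 [0], .cell [(true, 16), (false, 4), (false,
  2), (false, 19)], .cnt 0 [0], .cell [(true, 18), (false, 6), (false, 0), (false, 4)], .cnt 0 [0], .cell [(true, 20),
  (true, 24), (false, 2), (true, 10), (false, 4), (false, 27), (true, 23)], .cnt 0 [0], .cell [(true, 28), (true, 20),
  (true, 15), (false, 8), (false, 0)], .cnt 0 [0], .cell [(true, 30), (true, 22), (true, 17), (false, 10), (true, 2)],
  .cnt 0 [0], .cell [(true, 32), (true, 24), (true, 19), (false, 30), (false, 4)], .cnt 0 [0], .cell [(true, 34),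
  (true, 26), (true, 10), (true, 2), (false, 0)], .cnt 0 [0], .cell [(true, 36), (true, 28), (true, 23), (false, 33),
  (false, 0)], .cnt 0 [0], .cell [(true, 32), (true, 36), (false, 18), (false, 35), (true, 22), (false, 0)], .cnt 0
  [0], .cell [(true, 38), (true, 24), (true, 27), (false, 12), (false, 20), (false, 40)], .cnt 0 [0], .cell [(true,
  40), (true, 26), (true, 28), (false, 14), (false, 22), (false, 42)], .cnt 0 [0], .cell [(true, 44), (true, 36),
  (false, 42), (true, 14), (false, 2)], .cnt 0 [0], .cell [(true, 36), (false, 4), (false, 26), (false, 22), (false,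
  0)], .cnt 0 [0], .cell [(true, 38), (false, 4), (false, 28), (false, 24), (false, 2)], .cnt 0 [0], .cell [(true,
  50), (false, 8), (false, 14), (false, 2), (false, 32), (true, 26)], .cnt 0 [0], .cell [(true, 45), (true, 50),
  (false, 34), (false, 0)], .cnt 0 [0], .cell [(true, 54), (false, 12), (false, 18), (false, 4), (false, 20), (false,
  51)], .cnt 0 [0], .cell [(true, 49), (true, 54), (false, 38), (false, 0)], .cnt 0 [0], .cell [(true, 47), (true,
  56), (false, 16), (true, 42)], .cnt 0 [0], .cell [(true, 49), (false, 38), (false, 18), (true, 44)], .cnt 0 [0],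
  .cell [(true, 49), (false, 18), (false, 2), (false, 36), (false, 10), (false, 62)], .cnt 0 [0], .cell [(true, 50),
  (false, 22), (false, 4), (false, 38), (false, 8), (false, 64)], .cnt 0 [0], .cell [(true, 53), (false, 22), (false,
  6), (true, 58), (false, 12), (false, 63), (false, 3)], .cnt 0 [0], .cell [(true, 66), (false, 0), (false, 36),
  (false, 30), (false, 40), (true, 55)], .cnt 0 [0], .cell [(true, 68), (true, 67), (false, 2), (false, 22), (true,
  56), (true, 57)], .cnt 0 [0], .cell [(true, 62), (false, 28), (false, 52), (false, 48), (false, 4), (true, 70)],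
  .cnt 0 [0], .cell [(true, 74), (false, 32), (false, 10), (false, 2), (false, 46), (false, 71)], .cnt 0 [0], .cell
  [(true, 74), (true, 60), (false, 2), (false, 32), (false, 16)], .cnt 0 [0], .cell [(true, 75), (true, 62), (false,
  8), (false, 50), (true, 69), (false, 64)], .cnt 0 [0], .cell [(true, 68), (false, 0), (true, 67)], .cnt 0 [0], .cell
  [(true, 75), (true, 80), (false, 64), (false, 2)], .cnt 0 [0], .cell [(true, 84), (false, 42), (false, 20), (false,
  0), (true, 71)], .cnt 0 [0], .cell [(true, 76), (false, 66), (false, 6), (false, 4), (false, 10), (true, 42), (true,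
  44), (true, 0)], .cnt 0 [0], .cell [(true, 88), (false, 46), (false, 24), (false, 0), (true, 75)], .cnt 0 [0], .cell
  [(true, 88), (true, 74), (false, 2), (false, 22), (false, 62), (true, 18)], .cnt 0 [0], .cell [(true, 76), (false,
  8), (true, 84), (false, 10), (false, 16), (false, 89), (true, 68)], .cnt 0 [0], .cell [(true, 94), (true, 92),
  (true, 85), (false, 62), (false, 0)], .cnt 0 [0], .cell [(true, 94), (false, 2), (true, 83), (false, 68), (false,
  24), (true, 54)], .cnt 0 [0], .cell [(true, 96), (false, 34), (false, 26), (true, 90), (false, 80), (true, 85),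
  (true, 4)], .cnt 0 [0], .cell [(true, 100), (false, 58), (false, 36), (false, 2), (false, 80), (false, 98)], .cnt 0
  [0], .cell [(true, 99), (true, 86), (false, 4), (false, 34), (false, 6), (true, 14)], .cnt 0 [0], .cell [(true, 92),
  (false, 0), (false, 86)], .cnt 0 [0], .cell [(true, 104), (false, 2), (true, 93), (false, 34), (true, 98), (true,
  4), (true, 92), (true, 30)], .cnt 0 [0], .cell [(true, 106), (true, 95), (true, 100), (false, 86), (true, 30),
  (true, 68), (true, 14), (true, 18), (true, 66), (true, 64), (false, 1)], .cnt 0 [0], .cell [(true, 110), (false,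
  68), (false, 46), (false, 2), (true, 97)], .cnt 0 [0], .cell [(true, 109), (true, 96), (false, 12), (false, 18),
  (true, 103), (true, 99)], .cnt 0 [0], .cell [(true, 114), (true, 112), (true, 105), (false, 0), (false, 12)], .cnt 0
  [0], .cell [(true, 114), (false, 2), (true, 102), (false, 56), (false, 44), (true, 74)], .cnt 0 [0], .cell [(true,
  118), (false, 76), (false, 54), (false, 0), (false, 16), (false, 116)], .cnt 0 [0], .cell [(true, 118), (true, 104),
  (false, 54), (false, 20), (false, 28), (false, 107)], .cnt 0 [0], .cell [(true, 120), (true, 106), (false, 56),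
  (false, 24), (true, 114), (false, 122), (false, 1), (true, 50), (true, 14), (true, 6), (true, 26)], .cnt 0 [0],
  .cell [(true, 109), (true, 108)], .cnt 0 [0], .cell [(true, 126), (true, 118), (false, 8), (false, 123), (true,
  84)], .cnt 0 [0], .cell [(true, 128), (true, 120), (false, 56), (false, 126), (true, 86)], .cnt 0 [0], .cell [(true,
  130), (false, 88), (false, 66), (false, 76), (true, 120), (true, 117), (true, 86)], .cnt 0 [0], .cell [(true, 132),
  (false, 52), (false, 46), (false, 48), (true, 122), (false, 50)], .cnt 0 [0], .cell [(true, 128), (false, 72),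
  (false, 94), (false, 131)], .cnt 0 [0], .cell [(true, 134), (false, 10), (false, 22), (true, 123), (false, 108),
  (false, 136)], .cnt 0 [0], .cell [(true, 136), (false, 12), (false, 58), (false, 56), (false, 0)], .cnt 0 [0], .cell
  [(true, 130), (false, 98), (false, 120), (false, 12), (true, 127)], .cnt 0 [0], .cell [(true, 142), (true, 139),
  (true, 133), (false, 0), (true, 129)], .cnt 0 [0], .cell [(true, 142), (true, 141), (false, 68), (false, 0), (false,
  102), (false, 2)], .cnt 0 [0], .cell [(true, 143), (false, 102), (false, 4), (false, 114), (false, 70), (true,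
  133)], .cnt 0 [0], .cell [(true, 138), (false, 104), (false, 108), (false, 12), (false, 6)], .cnt 0 [0], .cell
  [(true, 148), (false, 30), (false, 18), (false, 0), (false, 86)], .cnt 0 [0], .cell [(true, 150), (true, 149),
  (false, 32), (false, 4), (false, 30), (false, 6)], .cnt 0 [0], .cell [(true, 152), (false, 78), (false, 24), (false,
  96), (false, 8), (false, 155)], .cnt 0 [0], .cell [(true, 156), (true, 154), (false, 132), (false, 18), (false, 8),
  (false, 153)], .cnt 0 [0], .cell [(true, 158), (true, 156), (false, 134), (false, 4), (false, 80), (false, 0)], .cnt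
  0 [0], .cell [(true, 160), (true, 157), (false, 134), (false, 2), (false, 78)], .cnt 0 [0], .cell [(true, 155),
  (true, 160), (false, 124), (false, 0), (false, 120)], .cnt 0 [0], .cell [(true, 162), (false, 78), (false, 26),
  (false, 82), (true, 155), (true, 6), (true, 38)], .cnt 0 [0], .cell [(true, 167), (true, 150), (false, 0), (true,
  153)], .cnt 0 [0], .cell [(true, 168), (true, 166), (false, 144), (false, 2), (false, 90)], .cnt 0 [0], .cell
  [(true, 170), (true, 168), (true, 161), (false, 0), (false, 2)], .cnt 0 [0], .cell [(true, 170), (false, 24),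
  (false, 58), (false, 0), (false, 14), (true, 52)], .cnt 0 [0], .cell [(true, 175), (true, 158), (false, 0), (true,
  161)], .cnt 0 [0], .cell [(true, 176), (true, 174), (false, 152), (false, 2), (false, 116)], .cnt 0 [0], .cell
  [(false, 134), (false, 20), (false, 0), (false, 26), (false, 16)], .cnt 0 [0], .cell [(true, 178), (true, 177),
  (false, 60), (false, 32), (false, 14), (false, 26)], .cnt 0 [0], .cell [(true, 172), (false, 38), (false, 60),
  (false, 22), (false, 34)], .cnt 0 [0], .cell [(true, 179), (false, 148), (false, 26), (false, 112)], .cnt 0 [0],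
  .cell [(true, 186), (false, 32), (false, 0), (false, 28), (true, 18)], .cnt 0 [0], .cell [(true, 186), (false, 76),
  (false, 0), (false, 2), (false, 54)], .cnt 0 [0], .cell [(true, 185), (false, 128), (false, 6), (false, 14)], .cnt 0
  [0], .cell [(true, 179), (false, 34), (false, 26), (false, 4), (true, 176)], .cnt 0 [0], .fin [185, 186, 193, 181,
  180, 38, 72, 12, 122, 88, 54, 176, 14, 70, 116, 134, 166, 84, 52, 90, 42, 18, 0, 40, 26, 6, 60, 10, 104, 46, 4, 144,
  80, 24, 36, 50, 30, 8, 2, 191, 102, 128]] 248831 = true := by decide +kernel

theorem hs : evC ([9, 15, 16, 16, 16, 15, 16, 16, 17] ++ [9, 16, 16]) = evC ([9, 16, 16] ++ [9, 15, 16, 16, 16, 15,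
  16, 16, 17]) := by decide +kernel

theorem h3 : eqF (flat [9, 15, 16, 16, 16, 15, 16, 16, 17]) ws = true := by decide +kernel

theorem h4 : neF (ws ++ cj wc wm) (cj wc wm ++ ws) = true := by decide +kernel

theorem cent : Nat.card (centralizer ({g wm} : Set G)) ≤ 373248 :=
  cent2 h1 h2 hc (by decide +kernel) hb hs h3 h4 (by norm_num)

theorem ty : TyB 29 (g wm) := (tyB_iff sg_6K _).2 ⟨orderOf_of_ordF ord,
  List.forall_mem_cons.2 ⟨tr_one ch_m,
  List.forall_mem_cons.2 ⟨tr_yy h2,
  List.forall_mem_cons.2 ⟨tr_pw l3 ch_v3,
  List.forall_mem_nil _⟩⟩⟩⟩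

end Cfsg.Agent.TAB.B.C3.T6K

namespace Cfsg.Agent.TAB.B.C3

theorem boxC_6K : BoxCB 29 := boxC_of T6K.ty T6K.cent cnt_6K (by norm_num)

end Cfsg.Agent.TAB.B.C3
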