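import Cfsg.Agent.BMx.FastFld
import Cfsg.Agent.H123.Cls.Cover
import Mathlib.Data.ZMod.Basic
import Mathlib.Data.Matrix.Mul

/-!
# The affine space of dimension 8 over the field with three elements: numerical part (helper84, TAB)

Matrices are lists of nine columns (fields of six bits), points are numbers below 6561 (base three).
`row p` is the translate by `p` of the mask `Om` (1440 vectors), `tab cs` the table of an affine map.
-/

set_option autoImplicit false
set_option exponentiation.threshold 7000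

namespace Cfsg.Agent.TAB.B.C3

open Matrix Cfsg.Agent.BMx.Fast Cfsg.Agent.H123.Cls
open Cfsg.Agent.Lib.BitNetSimple (force force_eq tb tb_eq)

/-- vectors -/
abbrev Vc : Type := Fin 9 → ZMod 3

/-- matrices -/
abbrev Mt : Type := Matrix (Fin 9) (Fin 9) (ZMod 3)

/-- the digits in base `b` -/
def dg (b q : ℕ) : Vc := fun i => ((q / b ^ (i : ℕ) % b : ℕ) : ZMod 3)

/-- a linear combination of columns -/
noncomputable def lin (b : ℕ) (cs : List ℕ) : ℕ → ℕ :=
  List.rec (motive := fun _ => ℕ → ℕ) (fun _ => 0)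
    (fun c _ ih q => Nat.add (Nat.mul (Nat.mod q b) c) (ih (Nat.div q b))) cs

/-- reduction modulo three -/
noncomputable def out (b n : ℕ) : ℕ → ℕ :=
  Nat.rec (motive := fun _ => ℕ → ℕ) (fun _ => 0)
    (fun _ ih s => Nat.add (Nat.mod (Nat.mod s 64) 3) (Nat.mul b (ih (Nat.div s 64)))) n

theorem fld6 (s i : ℕ) : fld 6 s i = s / 64 ^ i % 64 := by
  unfold fld
  rw [pow_mul]
  rfl

theorem div_pow_succ (q b j : ℕ) : q / b ^ (j + 1) = q / b / b ^ j := by
  rw [Nat.div_div_eq_div_mul, pow_succ']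

theorem lin_spec (b : ℕ) (cs : List ℕ) (q : ℕ) (hc : ∀ c ∈ cs, ∀ i, fld 6 c i ≤ 2) (hq : ∀ j, q / b ^ j % b ≤ 2)
    (hl : cs.length ≤ 15) (i : ℕ) :
    fld 6 (lin b cs q) i = ∑ j ∈ Finset.range cs.length, (q / b ^ j % b) * fld 6 (cs.getD j 0) i ∧
      fld 6 (lin b cs q) i ≤ 4 * cs.length := by
  induction cs generalizing q i with
  | nil => exact ⟨fld_zero 6 i, (fld_zero 6 i).le⟩
  | cons c cs ih =>
    have h0 : q % b ≤ 2 := by simpa using hq 0
    have h1 := ih (q / b) (fun d hd => hc d (List.mem_cons_of_mem _ hd))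
      (fun j => by rw [← div_pow_succ]; exact hq _) (by rw [List.length_cons] at hl; omega)
    have h2 := hc c List.mem_cons_self
    have h3 : ∀ i, fld 6 c i * (q % b) ≤ 4 := fun i => Nat.mul_le_mul (h2 i) h0
    have h4 : ∀ i, fld 6 (q % b * c) i = fld 6 c i * (q % b) := fun i => by
      rw [Nat.mul_comm]
      exact fld_mul (by norm_num) c _ (fun j => by have := h3 j; omega) i
    have h5 : fld 6 (lin b (c :: cs) q) i = fld 6 c i * (q % b) + fld 6 (lin b cs (q / b)) i := by
      show fld 6 (q % b * c + lin b cs (q / b)) i = _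
      rw [fld_add (by norm_num) _ _ (fun j => by
        have := h3 j
        have := (h1 j).2
        rw [List.length_cons] at hl
        rw [h4]
        omega), h4]
    rw [h5, List.length_cons]
    refine ⟨?_, by have := h3 i; have := (h1 i).2; omega⟩
    rw [Finset.sum_range_succ', (h1 i).1, pow_zero, Nat.div_one, List.getD_cons_zero, Nat.mul_comm, Nat.add_comm]
    congr 1
    exact Finset.sum_congr rfl fun j _ => by rw [List.getD_cons_succ, div_pow_succ]

theorem out_spec {b : ℕ} (hb : 3 ≤ b) (n s i : ℕ) : out b n s / b ^ i % b = if i < n then fld 6 s i % 3 else 0 := by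
  induction n generalizing s i with
  | zero => show 0 / b ^ i % b = _; simp
  | succ n ih =>
    have h1 : out b (n + 1) s = s % 64 % 3 + b * out b n (s / 64) := rfl
    have h2 : s % 64 % 3 < b := lt_of_lt_of_le (Nat.mod_lt _ (by norm_num)) hb
    rw [h1]
    cases i with
    | zero =>
      rw [pow_zero, Nat.div_one, Nat.add_mul_mod_self_left, Nat.mod_eq_of_lt h2, if_pos (Nat.succ_pos n), fld6]
      simp
    | succ i =>
      rw [div_pow_succ, Nat.add_mul_div_left _ _ (by omega), Nat.div_eq_of_lt h2, Nat.zero_add, ih, fld6, fld6,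
        div_pow_succ]
      simp

theorem out_lt (n s : ℕ) : out 3 n s < 3 ^ n := by
  induction n generalizing s with
  | zero => exact Nat.one_pos
  | succ n ih =>
    have h1 : out 3 (n + 1) s = s % 64 % 3 + 3 * out 3 n (s / 64) := rfl
    have := ih (s / 64)
    rw [h1, pow_succ]
    omega

/-- the list `cs` represents the matrix `X` -/
def Rp (cs : List ℕ) (X : Mt) : Prop :=
  cs.length = 9 ∧ (∀ c ∈ cs, ∀ i, fld 6 c i ≤ 2) ∧ ∀ i j : Fin 9, ((fld 6 (cs.getD j 0) i : ℕ) : ZMod 3) = X i j

theorem Rp.unique {cs : List ℕ} {X Y : Mt} (hX : Rp cs X) (hY : Rp cs Y) : X = Y := by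
  ext i j
  rw [← hX.2.2, hY.2.2]

theorem fld_out (n s i : ℕ) : fld 6 (out 64 n s) i = if i < n then fld 6 s i % 3 else 0 := by
  rw [fld6, out_spec (by norm_num)]

theorem fld_out_le (n s i : ℕ) : fld 6 (out 64 n s) i ≤ 2 := by
  rw [fld_out]
  split_ifs <;> omega

theorem Rp.of_chk {cs : List ℕ} {X : Mt} (h1 : cs.length = 9) (h2 : ∀ c ∈ cs, out 64 9 c = c)
    (h3 : ∀ i j : Fin 9, ((fld 6 (cs.getD j 0) i : ℕ) : ZMod 3) = X i j) : Rp cs X :=
  ⟨h1, fun c hc i => by rw [← h2 c hc]; exact fld_out_le _ _ _, h3⟩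

theorem Rp.lin {cs : List ℕ} {X : Mt} (h : Rp cs X) (b q : ℕ) (hq : ∀ j, q / b ^ j % b ≤ 2) (i : Fin 9) :
    ((fld 6 (lin b cs q) i : ℕ) : ZMod 3) = (X *ᵥ dg b q) i := by
  rw [(lin_spec b cs q h.2.1 hq (by rw [h.1]; norm_num) i).1, h.1, Finset.sum_range, Nat.cast_sum]
  show _ = ∑ j, X i j * dg b q j
  refine Finset.sum_congr rfl fun j _ => ?_
  rw [Nat.cast_mul, h.2.2, mul_comm]
  rfl

/-- the product -/
noncomputable def mulC (cs ds : List ℕ) : List ℕ :=
  List.rec (motive := fun _ => List ℕ) [] (fun d _ ih => out 64 9 (lin 64 cs d) :: ih) ds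

theorem mulC_eq (cs ds : List ℕ) : mulC cs ds = ds.map fun d => out 64 9 (lin 64 cs d) := by
  induction ds with
  | nil => rfl
  | cons d ds ih => exact congrArg (List.cons _) ih

theorem Rp.mul {cs ds : List ℕ} {X Y : Mt} (hX : Rp cs X) (hY : Rp ds Y) : Rp (mulC cs ds) (X * Y) := by
  rw [mulC_eq]
  refine ⟨by rw [List.length_map, hY.1], fun c hc i => ?_, fun i j => ?_⟩
  · obtain ⟨d, -, rfl⟩ := List.mem_map.1 hc
    exact fld_out_le _ _ _
  · have hj : (j : ℕ) < ds.length := by rw [hY.1]; exact j.2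
    rw [List.getD_eq_getElem _ _ (by rw [List.length_map]; exact hj), List.getElem_map, fld_out, if_pos i.2,
      ZMod.natCast_mod, hX.lin 64 _ (fun k => by rw [← fld6]; exact hY.2.1 _ (List.getElem_mem hj) k), Matrix.mul_apply]
    show ∑ k, X i k * dg 64 ds[(j : ℕ)] k = _
    refine Finset.sum_congr rfl fun k _ => ?_
    rw [← hY.2.2, List.getD_eq_getElem _ _ hj, fld6]
    rfl

/-- the unit matrix -/
def oneC : List ℕ := [1, 64, 4096, 262144, 16777216, 1073741824, 68719476736, 4398046511104, 281474976710656]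

theorem rp_one : Rp oneC 1 := Rp.of_chk rfl (by decide +kernel) (by
  have h : ∀ i j : Fin 9, ((fld 6 (oneC.getD j 0) i : ℕ) : ZMod 3) = if i = j then 1 else 0 := by decide +kernel
  intro i j
  rw [h, Matrix.one_apply])

/-! ### Codes -/

/-- the code of the first eight coordinates -/
def cd (u : Vc) : ℕ := (u 0).val + 3 * (u 1).val + 9 * (u 2).val + 27 * (u 3).val + 81 * (u 4).val + 243 * (u 5).val +
  729 * (u 6).val + 2187 * (u 7).val

theorem val_lt (a : ZMod 3) : a.val < 3 := ZMod.val_lt a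

theorem cd_lt (u : Vc) : cd u < 6561 := by
  unfold cd
  have := val_lt (u 0); have := val_lt (u 1); have := val_lt (u 2); have := val_lt (u 3)
  have := val_lt (u 4); have := val_lt (u 5); have := val_lt (u 6); have := val_lt (u 7)
  omega

theorem cd_congr {u v : Vc} (h : ∀ i, i ≠ 8 → u i = v i) : cd u = cd v := by
  unfold cd
  rw [h 0 (by decide), h 1 (by decide), h 2 (by decide), h 3 (by decide), h 4 (by decide), h 5 (by decide),
    h 6 (by decide), h 7 (by decide)]

theorem dg_val (q : ℕ) (i : Fin 9) : (dg 3 q i).val = q / 3 ^ (i : ℕ) % 3 := by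
  unfold dg
  rw [ZMod.val_natCast, Nat.mod_mod]

theorem cd_dg (q : ℕ) : cd (dg 3 q) = q % 6561 := by
  unfold cd
  simp only [dg_val]
  show q / 3 ^ 0 % 3 + 3 * (q / 3 ^ 1 % 3) + 9 * (q / 3 ^ 2 % 3) + 27 * (q / 3 ^ 3 % 3) + 81 * (q / 3 ^ 4 % 3) +
    243 * (q / 3 ^ 5 % 3) + 729 * (q / 3 ^ 6 % 3) + 2187 * (q / 3 ^ 7 % 3) = _
  omega

theorem dg_cd (u : Vc) (e : ℕ) (i : Fin 9) : dg 3 (cd u + 6561 * e) i = if i = 8 then (e : ZMod 3) else u i := by
  apply ZMod.val_injective
  rw [dg_val]
  have h8 : ((e : ℕ) : ZMod 3).val = e % 3 := ZMod.val_natCast 3 e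
  unfold cd
  have := val_lt (u 0); have := val_lt (u 1); have := val_lt (u 2); have := val_lt (u 3)
  have := val_lt (u 4); have := val_lt (u 5); have := val_lt (u 6); have := val_lt (u 7)
  match i with
  | 0 => show _ / 3 ^ 0 % 3 = (u 0).val; omega
  | 1 => show _ / 3 ^ 1 % 3 = (u 1).val; omega
  | 2 => show _ / 3 ^ 2 % 3 = (u 2).val; omega
  | 3 => show _ / 3 ^ 3 % 3 = (u 3).val; omega
  | 4 => show _ / 3 ^ 4 % 3 = (u 4).val; omega
  | 5 => show _ / 3 ^ 5 % 3 = (u 5).val; omega
  | 6 => show _ / 3 ^ 6 % 3 = (u 6).val; omega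
  | 7 => show _ / 3 ^ 7 % 3 = (u 7).val; omega
  | 8 => show _ / 3 ^ 8 % 3 = ((e : ℕ) : ZMod 3).val; omega

theorem dg3_le (q j : ℕ) : q / 3 ^ j % 3 ≤ 2 := by omega

/-- the image of a code -/
theorem Rp.code {cs : List ℕ} {X : Mt} (h : Rp cs X) (q : ℕ) : out 3 8 (C3.lin 3 cs q) = cd (X *ᵥ dg 3 q) := by
  have h1 := out_lt 8 (C3.lin 3 cs q)
  rw [← Nat.mod_eq_of_lt h1, show 3 ^ 8 = 6561 from rfl, ← cd_dg]
  refine cd_congr fun i hi => ?_
  have h2 : (i : ℕ) < 8 := by
    have := i.2
    have : (i : ℕ) ≠ 8 := fun h3 => hi (Fin.ext h3)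
    omega
  rw [← h.lin 3 q (dg3_le q)]
  unfold dg
  rw [out_spec le_rfl, if_pos h2, ZMod.natCast_mod]

/-! ### Tables -/

/-- the table of a function -/
noncomputable def tabF (f : ℕ → ℕ) (k : ℕ) : ℕ → ℕ :=
  Nat.rec (motive := fun _ => ℕ → ℕ) (fun b => f b)
    (fun k ih b => force (Nat.add b (Nat.pow 2 k)) fun b' =>
      Nat.lor (ih b) (Nat.shiftLeft (ih b') (Nat.mul 13 (Nat.pow 2 k)))) k

theorem fld_tabF {f : ℕ → ℕ} (hf : ∀ p, f p < 8192) (k b i : ℕ) :
    fld 13 (tabF f k b) i = if i < 2 ^ k then f (b + i) else 0 := by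
  induction k generalizing b i with
  | zero =>
    show fld 13 (f b) i = _
    have := hf b
    cases i with
    | zero => simpa [fld] using this
    | succ i =>
      rw [if_neg (by simp)]
      exact fld_of_lt (n := 1) this (by omega)
  | succ k ih =>
    have h1 : tabF f (k + 1) b = force (b + 2 ^ k) fun b' => tabF f k b ||| (tabF f k b' <<< (13 * 2 ^ k)) := rfl
    rw [h1, force_eq, fld_or, fld_shiftLeft, ih, ih, pow_succ]
    by_cases h2 : i < 2 ^ k
    · rw [if_pos h2, if_neg (by omega), if_pos (by omega), Nat.or_zero]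
    · rw [if_neg h2, if_pos (by omega), Nat.zero_or]
      by_cases h3 : i < 2 ^ k * 2
      · rw [if_pos (by omega), if_pos h3]
        congr 1
        omega
      · rw [if_neg (by omega), if_neg h3]

/-- the table of the affine map with the columns `cs` -/
noncomputable def tab (cs : List ℕ) : ℕ :=
  tabF (fun p => force (Nat.add p 6561) fun q => force (lin 3 cs q) (out 3 8)) 13 0

theorem lk_tab {cs : List ℕ} {X : Mt} (h : Rp cs X) {p : ℕ} (hp : p < 6561) :
    lk 13 (tab cs) p = cd (X *ᵥ dg 3 (p + 6561)) := by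
  have h1 : lk 13 (tab cs) p = fld 13 (tab cs) p := by
    show (tab cs >>> (13 * p)) &&& (2 ^ 13 - 1) = _
    rw [Nat.and_two_pow_sub_one_eq_mod, Nat.shiftRight_eq_div_pow]
    rfl
  rw [h1, tab, fld_tabF (fun p => by
    rw [force_eq, force_eq]
    exact (out_lt 8 _).trans (by norm_num)), if_pos (by omega), force_eq, force_eq, Nat.zero_add]
  exact h.code _

/-! ### The graph -/

/-- the orbit of length 1440 -/
def Om : ℕ := 0x110500194110031209001504409110501200c06009200ca00312141108800541102444140480301803105001941100312090012401940062428221100081891102401a20a0500040c48881200d105028002010080402010080403ff504409110501200c0600c414006504400c48240040c48881200d10502800310500194110031209001504409110501200c060081891102401a20a05000490065001890a0884400248032800c48504422001008040201008040201ff81891102401a20a05000490065001890a08844002a08812220a0240180c012401940062428221100081891102401a20a0500054110244414048030180310500194110031209001882800ca088018904800804020100804020100ffd411024441404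80301803105001941100312090010312220480344140a000c414006504400c48240054110244414048030180206244409006882814001240194006242822110009200ca003121411088004020100804020100807ff10500194110031209001504409110501200c06009200ca00312141108800541102444140480301803105001941100312090012401940062428221100081891102401a20a0500040c48881200d105028002010080402010080403ff0312220480344140a0009200ca0031214110880054110244414048030180248032800c485044220010312220480344140a000a8220488828090060300620a0032822006241200310500194110031209001008040201008040201ff9200ca0031214110880040c48881200d105028003105001941100312090010312220480344140a0009200ca00312141108800620a00328220062412002a08812220a0240180c01504409110501200c0600804020100804020100ffc90065001890a0884400206244409006882814001882800ca08801890480081891102401a20a05000490065001890a0884400310500194110031209001504409110501200c0600a82204888280900603004020100804020100807fe010080402010080403ff008040201008040201ff804020100804020100ffc020100804020100807fe010080402010080403ff008040201008040201ff804020100804020100ffc020100804020100807fffffffffffffffffffffe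

/-- the codes with the digit `i` equal to zero -/
noncomputable def sB (i : ℕ) : ℕ :=
  Nat.mul (Nat.sub (Nat.pow 2 (Nat.pow 3 i)) 1)
    (Nat.div (Nat.sub (Nat.pow 2 6561) 1) (Nat.sub (Nat.pow 2 (Nat.pow 3 (Nat.succ i))) 1))

/-- the other codes -/
noncomputable def sA (i : ℕ) : ℕ := Nat.xor (Nat.sub (Nat.pow 2 6561) 1) (sB i)

/-- translation by a unit vector -/
noncomputable def sh (i M : ℕ) : ℕ :=
  Nat.lor (Nat.land (Nat.shiftLeft M (Nat.pow 3 i)) (sA i))
    (Nat.land (Nat.shiftRight M (Nat.mul 2 (Nat.pow 3 i))) (sB i))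

/-- translation by a multiple of a unit vector -/
noncomputable def st (i d M : ℕ) : ℕ := cnd (Nat.beq d 0) M (cnd (Nat.beq d 1) (sh i M) (sh i (sh i M)))

/-- translation by the digits of `q` -/
noncomputable def rwN (n : ℕ) : ℕ → ℕ → ℕ :=
  Nat.rec (motive := fun _ => ℕ → ℕ → ℕ) (fun _ _ => Om)
    (fun _ ih i q => force (Nat.div q 3) fun q' => st i (Nat.mod q 3) (ih (Nat.succ i) q')) n

/-- the rows of the graph -/
noncomputable def row (p : ℕ) : ℕ := rwN 8 0 p

theorem sB_chk : allN (fun i => Nat.beq (sB i)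
    (bld (fun q => band (Nat.blt q 6561) (Nat.beq (Nat.mod (Nat.div q (Nat.pow 3 i)) 3) 0)) 13 0)) 8 = true := by
  decide +kernel

theorem testBit_sB {i : ℕ} (hi : i < 8) (q : ℕ) : (sB i).testBit q = true ↔ q < 6561 ∧ q / 3 ^ i % 3 = 0 := by
  rw [Nat.eq_of_beq_eq_true ((allN_iff _ _).1 sB_chk i hi), testBit_bld, Bool.and_eq_true, band_eq, Nat.zero_add,
    decide_eq_true_iff, Nat.blt_eq, Nat.beq_eq]
  exact ⟨fun h => h.2, fun h => ⟨by omega, h⟩⟩

theorem testBit_sA {i : ℕ} (hi : i < 8) (q : ℕ) : (sA i).testBit q = true ↔ q < 6561 ∧ q / 3 ^ i % 3 ≠ 0 := by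
  show ((2 ^ 6561 - 1) ^^^ sB i).testBit q = true ↔ _
  rw [Nat.testBit_xor, Nat.testBit_two_pow_sub_one]
  have h := testBit_sB hi q
  cases h1 : (sB i).testBit q
  · rw [h1] at h
    simp only [Bool.false_eq_true, false_iff, not_and] at h
    simp only [Bool.xor_false, decide_eq_true_eq]
    exact ⟨fun h2 => ⟨h2, h h2⟩, fun h2 => h2.1⟩
  · have h2 := h.1 h1
    simp [h2.1, h2.2]

/-- the code of `q` minus a unit vector -/
noncomputable def prd (i q : ℕ) : ℕ := cnd (Nat.beq (Nat.mod (Nat.div q (Nat.pow 3 i)) 3) 0) (Nat.add q (Nat.mul 2 (Nat.pow 3 i)))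
  (Nat.sub q (Nat.pow 3 i))

theorem prd_chk : allN (fun i => allN (fun q => force (prd i q) fun r => band (Nat.blt r 6561)
    (allN (fun j => Nat.beq (Nat.mod (Nat.add (Nat.div r (Nat.pow 3 j)) (cnd (Nat.beq j i) 1 0)) 3)
      (Nat.mod (Nat.div q (Nat.pow 3 j)) 3)) 9)) 6561) 8 = true := by decide +kernel

theorem prd_spec {i : Fin 9} (hi : (i : ℕ) < 8) {q : ℕ} (hq : q < 6561) :
    prd i q < 6561 ∧ dg 3 (prd i q) = dg 3 q - Pi.single i 1 := by
  have h := (allN_iff _ _).1 ((allN_iff _ _).1 prd_chk i hi) q hq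
  rw [force_eq, band_eq, Nat.blt_eq] at h
  refine ⟨h.1, funext fun j => ?_⟩
  have h1 : (prd i q / 3 ^ (j : ℕ) + cnd (Nat.beq j i) 1 0) % 3 = q / 3 ^ (j : ℕ) % 3 :=
    Nat.eq_of_beq_eq_true ((allN_iff _ _).1 h.2 j j.2)
  rw [Pi.sub_apply, eq_sub_iff_add_eq]
  unfold dg
  rw [← h1, ZMod.natCast_mod, ZMod.natCast_mod, Nat.cast_add]
  congr 1
  by_cases h2 : j = i
  · rw [h2, Pi.single_eq_same, Nat.beq_refl]
    rfl
  · have h3 : Nat.beq j i = false := by
      rw [← Bool.not_eq_true, Nat.beq_eq]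
      exact fun h4 => h2 (Fin.ext h4)
    rw [Pi.single_eq_of_ne h2, h3]
    rfl

/-- the mask `M` is given by the predicate `f` -/
def Mk (M : ℕ) (f : Vc → Prop) : Prop := ∀ q, M.testBit q = true ↔ q < 6561 ∧ f (dg 3 q)

theorem Mk.sh {M : ℕ} {f : Vc → Prop} (h : Mk M f) {i : Fin 9} (hi : (i : ℕ) < 8) :
    Mk (sh i M) fun u => f (u - Pi.single i 1) := by
  intro q
  show (((M <<< (3 ^ (i : ℕ))) &&& sA i) ||| ((M >>> (2 * 3 ^ (i : ℕ))) &&& sB i)).testBit q = true ↔ _
  rw [Nat.testBit_or, Nat.testBit_and, Nat.testBit_and, Nat.testBit_shiftLeft, Nat.testBit_shiftRight,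
    Bool.or_eq_true, Bool.and_eq_true, Bool.and_eq_true, Bool.and_eq_true, testBit_sA hi, testBit_sB hi, h, h,
    decide_eq_true_iff]
  by_cases hq : q < 6561
  · obtain ⟨h1, h2⟩ := prd_spec hi hq
    beta_reduce
    rw [← h2]
    by_cases h3 : q / 3 ^ (i : ℕ) % 3 = 0
    · have h4 : prd i q = 2 * 3 ^ (i : ℕ) + q := by
        have h5 : Nat.beq (Nat.mod (Nat.div q (Nat.pow 3 i)) 3) 0 = true := by rw [Nat.beq_eq]; exact h3
        unfold prd
        rw [h5]
        exact Nat.add_comm _ _
      rw [h4] at h1 ⊢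
      simp [h1, hq, h3]
    · have h4 : prd i q = q - 3 ^ (i : ℕ) := by
        have h5 : Nat.beq (Nat.mod (Nat.div q (Nat.pow 3 i)) 3) 0 = false := by
          rw [← Bool.not_eq_true, Nat.beq_eq]
          exact h3
        unfold prd
        rw [h5]
        rfl
      have h6 : 3 ^ (i : ℕ) ≤ q := by
        by_contra h7
        rw [Nat.div_eq_of_lt (by omega)] at h3
        exact h3 rfl
      rw [h4] at h1 ⊢
      simp [h1, hq, h3, h6]
  · simp [hq]

theorem Mk.st {M : ℕ} {f : Vc → Prop} (h : Mk M f) {i : Fin 9} (hi : (i : ℕ) < 8) {d : ℕ} (hd : d < 3) :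
    Mk (st i d M) fun u => f (u - Pi.single i (d : ZMod 3)) := by
  interval_cases d
  · show Mk M _
    simpa using h
  · show Mk (C3.sh i M) _
    simpa using h.sh hi
  · show Mk (C3.sh i (C3.sh i M)) _
    have h1 := (h.sh hi).sh hi
    simp only [sub_sub, ← Pi.single_add] at h1
    exact h1

/-- the vector of the translation -/
def off (n i q : ℕ) : Vc := fun j => if i ≤ j ∧ (j : ℕ) < i + n then ((q / 3 ^ ((j : ℕ) - i) % 3 : ℕ) : ZMod 3) else 0

theorem Om_lt : Nat.blt Om (Nat.pow 2 6561) = true := by decide +kernel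

theorem mk_rwN (n i q : ℕ) (h : i + n ≤ 8) : Mk (rwN n i q) fun u => Om.testBit (cd (u - off n i q)) = true := by
  induction n generalizing i q with
  | zero =>
    intro p
    show Om.testBit p = true ↔ _
    have h1 : off 0 i q = 0 := funext fun j => if_neg (by omega)
    beta_reduce
    rw [h1, sub_zero, cd_dg]
    by_cases hp : p < 6561
    · rw [Nat.mod_eq_of_lt hp]
      simp [hp]
    · rw [Nat.testBit_lt_two_pow (lt_of_lt_of_le (Nat.blt_eq.mp Om_lt) (Nat.pow_le_pow_right (by norm_num) (by omega)))]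
      simp [hp]
  | succ n ih =>
    have h1 : rwN (n + 1) i q = force (q / 3) fun q' => st i (q % 3) (rwN n (i + 1) q') := rfl
    rw [h1, force_eq]
    have h2 := (ih (i + 1) (q / 3) (by omega)).st (i := ⟨i, by omega⟩) (show i < 8 by omega) (Nat.mod_lt q (by norm_num))
    have h3 : ∀ u : Vc, u - Pi.single (⟨i, by omega⟩ : Fin 9) ((q % 3 : ℕ) : ZMod 3) - off n (i + 1) (q / 3) =
        u - off (n + 1) i q := by
      intro u
      rw [sub_sub]
      congr 1
      funext j
      rw [Pi.add_apply]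
      unfold off
      by_cases h4 : j = ⟨i, by omega⟩
      · rw [h4, Pi.single_eq_same, if_neg (by simp), if_pos (by simp)]
        simp
      · have h5 : (j : ℕ) ≠ i := fun h6 => h4 (Fin.ext h6)
        rw [Pi.single_eq_of_ne h4, zero_add]
        by_cases h6 : i + 1 ≤ j ∧ (j : ℕ) < i + 1 + n
        · rw [if_pos h6, if_pos (by omega), ← div_pow_succ, show (j : ℕ) - (i + 1) + 1 = j - i by omega]
        · rw [if_neg h6, if_neg (by omega)]
    simp only [h3] at h2
    exact h2

/-- the points -/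
def pt (p : ℕ) : Vc := dg 3 (p + 6561)

theorem pt_eq {p : ℕ} (hp : p < 6561) (i : Fin 9) : pt p i = if i = 8 then 1 else dg 3 p i := by
  have h1 := dg_cd (dg 3 p) 1 i
  rw [cd_dg, Nat.mod_eq_of_lt hp, Nat.mul_one, Nat.cast_one] at h1
  exact h1

theorem pt_cd {u : Vc} (hu : u 8 = 1) : pt (cd u) = u := by
  funext i
  have h1 := dg_cd u 1 i
  rw [Nat.mul_one, Nat.cast_one] at h1
  refine h1.trans ?_
  split_ifs with h2
  · rw [h2, hu]
  · rfl

theorem cd_pt {p : ℕ} (hp : p < 6561) : cd (pt p) = p := by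
  unfold pt
  rw [cd_dg]
  omega

theorem testBit_row {p q : ℕ} (hp : p < 6561) (hq : q < 6561) :
    (row p).testBit q = Om.testBit (cd (pt q - pt p)) := by
  rw [Bool.eq_iff_iff]
  refine (mk_rwN 8 0 p le_rfl q).trans ?_
  have h1 : cd (dg 3 q - off 8 0 p) = cd (pt q - pt p) := cd_congr fun i hi => by
    have h2 : (i : ℕ) < 8 := by
      have := i.2
      have : (i : ℕ) ≠ 8 := fun h3 => hi (Fin.ext h3)
      omega
    rw [Pi.sub_apply, Pi.sub_apply, pt_eq hp, pt_eq hq, if_neg hi, if_neg hi]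
    unfold off
    rw [if_pos (by omega)]
    rfl
  beta_reduce
  rw [h1]
  simp [hq]

/-- the mask is invariant -/
noncomputable def chkO (cs : List ℕ) : Bool :=
  allN (fun q => cnd (tb Om q) (force (lin 3 cs q) fun s => force (out 3 8 s) (tb Om)) true) 6561

theorem inv_of_chkO {cs : List ℕ} {X : Mt} (h : Rp cs X) (hc : chkO cs = true) {v : Vc} (hv : v 8 = 0)
    (h1 : Om.testBit (cd v) = true) : Om.testBit (cd (X *ᵥ v)) = true := by
  have h2 := (allN_iff _ _).1 hc (cd v) (cd_lt v)
  rw [tb_eq, h1, cnd_true, force_eq, force_eq, tb_eq, h.code] at h2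
  have h3 : dg 3 (cd v) = v := funext fun i => by
    have h4 := dg_cd v 0 i
    rw [Nat.mul_zero, Nat.add_zero, Nat.cast_zero] at h4
    refine h4.trans ?_
    split_ifs with h5
    · rw [h5, hv]
    · rfl
  rwa [h3] at h2

end Cfsg.Agent.TAB.B.C3
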