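import Cfsg.Agent.TAB.B.C3.Use

/-!
# The type 6D of the Baby Monster (helper84, TAB; generated)
-/

set_option autoImplicit false
set_option maxRecDepth 100000
set_option Elab.async false

namespace Cfsg.Agent.TAB.B.C3.T6D

open Subgroup Cfsg.Agent.BabyM.Conc Cfsg.Agent.BabyM.TransInv Cfsg.Agent.H819.U33 Cfsg.Agent.BMx.Fast
  Cfsg.Agent.TAB.B.Tr Cfsg.Agent.H123.Cls Cfsg.Agent.TAB.Eng
open Cfsg.Agent.H863.U33 (wy1)

/-- word -/
def wm : List Ltr := [.Z10, .Z4, .Z3, .Z0, .X9, .X8, .X6, .X3, .X2, .X1, .y10, .y6, .y5, .y4, .y2, .p5, .hi, .p7, .hi, .p8, .hi, .p7, .hi, .p5, .hi, .taui, .X0]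

/-- plane -/
def pm_0 : ℕ := 0xffffffffffffffffffffffffffffffffffffffffffffffffffffffffffffffffffffffffffffffffffffffffffffffffffffffffffffffffffffffffffffffffffffffffffffffffffffffffffffffffffffffffffffffffffffffffffffffffffffffffffffffffffffffffffffffffffffffffffffffffffffffffffffffff00000000000000000000000000000000000000000000000000000000000000000000000000000000000000000000000000000000000000000000000000000000000000000000000000000000000000000000000000000000000000000000000000000000000000000000000000000000000000000000000000000000000000000000000000000000000000000000000000000000000000000000000000000000000000000000000000000000000000000000000000000000000000000000000000000000000000000000000000000000000000000000000000000000000000000000000000000000000000000000000000000000000000000000000000000000000000000000000000000000000000000000000000000000000000000000000000000000000000000000000000000000000000000000000000000000000000000000000000000000000000000000000000000000007252c0007252ca007252c0000000000000ffff0000ffffffffffff0000ffffffffffff00000000ffffffff000000000000ffff00000000ffffffffffffffffffffffff00000000000000000000ffff0000ffff0000ffff0000ffffffffffff0000ffff0000aaaa0000ffffffffaaaaffff00000000000000000000ffffffff000000000000000000000000ffff000000000000aaaa0000ffff000000000000000000000000000000000000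

/-- plane -/
def pm_1 : ℕ := 0xffffffffffffffffffffffffffffffffffffffffffffffffffffffffffffffffffffffffffffffffffffffffffffffffffffffffffffffffffffffffffffffffffffffffffffffffffffffffffffffffffffffffffffffffffffffffffffffffffffffffffffffffffffffffffffffffffffffffffffffffffffffffffffffff0000000000000000000000000000000000000000000000000000000000000000000000000000000000000000000000000000000000000000000000000000000000000000000000000000000000000000000000000000000000000000000000000000000000000000000000000000000000000000000000000000000000000000000000000000000000000000000000000000000000000000000000000000000000000000000000000000000000000000000000000000000000000000000000000000000000000000000000000000000000000000000000000000000000000000000000000000000000000000000000000000000000000000000000000000000000000000000000000000000000000000000000000000000000000000000000000000000000000000000000000000000000000000000000000000000000000000000000000000000000000000000000000000000000000000000000000000000000000000000000000000000000000000000000000000000000000000000000000000000000000000000000000000000000000000000000000000000000000000000000000000000000000000000000000000000000000000000000000000000000000000000000000000000000000000000000000004040a00040400000404000000000000000000ffff000000000000ffff000000000000ffffffff000000000000ffffffff0000ffffffff000000000000000000000000ffff0000ffff0000ffff0000ffff0000000000000000000000000000000000000000cccc000000000000cccc00000000000000000000000000000000000000000000ffffffff00000000000000000000cccc00000000000000000000000000000000000000000000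

/-- plane -/
def pm_2 : ℕ := 0xf0f0000000000000f0f0000000000000000000000000000000000000000000000000000000000000000000000000f0f000000000000000000000000000000000000000000000

/-- plane -/
def pm_3 : ℕ := 0xff00000000000000ff00000000000000000000000000000000000000000000000000000000000000000000000000ff0000000000000000000000000000000000000000000000

theorem cm_0 : trF wm 4 [pm_0, pm_1, pm_2, pm_3] U (-28) = true := by decide +kernel

theorem ch_m : chB (g wm) = ((-7 : ℤ) : ℚ) := chB_of (dg_of_trF cm_0) (by decide) (by decide)

/-- word -/
def wv3 : List Ltr := [.z, .Z10, .Z7, .Z4, .Z2, .Z1, .Z0, .X9, .X6, .X4, .X3, .y8, .y4, .y3, .y1, .p5, .hi, .p5, .hi, .p3, .hi, .p5, .hi, .p9, .hi]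

/-- plane -/
def pv3_0 : ℕ := 0xfffffffffffffffff6f6f6f6f9f9f9f9ffffffffffffffff9999999966666666ffffffffffffffff6060606090909090ffffffffffffffff0000000000000000f6f6f6f6f9f9f9f90000000000000000999999996666666600000000000000006060606090909090000000000000000000000000000000000000000000000000ffffffffffffffff6f6f6f6f9f9f9f9fffffffffffffffff9999999966666666ffffffffffffffff0606060609090909ffffffffffffffff00000000000000006f6f6f6f9f9f9f9f00000000000000009999999966666666000000000000000006060606090909090000000000000000000000000000000000000000000000000000000000000000000000000000000000000000000000000000000000000000000000000000000000000000000000000000000000000000000000000000000000000000000000000000000000000000000000000000000000000000000000000000000000000000000000000000000000000000000000000000000000000000f9f9f9f9f6f6f6f6ffffffffffffffff6666666699999999ffffffffffffffff9090909060606060ffffffffffffffff0000000000000000ffffffffffffffff0000000000000000f9f9f9f9f6f6f6f6000000000000000066666666999999990000000000000000909090906060606000000000000000000000000000000000000000000000000000000000000000000000000000000000000000000000000000000000000000000000000000000000000000000000000000000000000000000000000000000000000000000000000000000000007330000073b8c000620000000000000000ffffea04ffffffffffffe608fffffffffffff000f000ae04ffffffffffffffffffffffffffffffffffff0000ffffd850ffff000000000000ffffffff6090ffffffffea80ffffffff30c00000000000000000fffff000ae400000fffff000ffffffff000000000000000000000000000000000000a5003c0000006900000000f00000ea200000f000000000000000609000000000f000c0300000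

theorem cv3_0 : trF wv3 1 [pv3_0] U (-493) = true := by decide +kernel

theorem ch_v3 : chB (g wv3) = ((-493 : ℤ) : ℚ) := chB_of (dg_of_trF cv3_0) (by decide) (by decide)

/-- word -/
def c3 : List Ltr := []

theorem l3 : eqF (cj c3 wv3) (pw wm 3) = true := by decide +kernel

/-- word -/
def wc : List Ltr := [.Z8, .Z7, .Z6, .Z5, .Z4, .X10, .X6, .X2, .X1, .y10, .y8, .y5, .y3, .y2, .p7, .hi, .p4, .hi, .p6,
  .hi, .p9, .hi, .p10, .hi, .p5, .xii, .hi, .p8, .xii, .y4, .y9, .taui, .xii, .y6, .p3, .hi, .xii, .p10, .y1, .tau,
  .xii, .hi, .p8, .xii, .y2, .X0, .p10, .xii, .y4, .p8, .xii, .y8, .tau, .xii, .p4, .xii, .y1, .y10, .p2, .hi, .p7,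
  .tau, .xii, .p2]

/-- word -/
def ws : List Ltr := [.Z9, .Z7, .Z4, .X9, .X8, .X3, .y10, .y8, .y3, .y2, .y1, .p10, .hi, .p10, .hi, .p3, .hi, .p9,
  .hi, .p, .xii, .y2, .hi, .p4, .hi, .p4, .taui, .X0, .y1, .p6, .xii, .p, .xii, .xii, .p, .xii, .y5, .tau, .xii, .p5,
  .xii, .p10, .y7, .hi, .p9, .tau]

theorem ord : ordF wm 6 = true := by decide +kernel

theorem h1 : eqF (cj wc wm) (flat [11, 15, 15, 15] ++ pw wy1 1) = true := by decide +kernel

theorem h2 : or (eqF (cj wc (pw wm 2)) wy1) (eqF (cj wc (pw wm 2)) (winv wy1)) = true := by decide +kernel

/-- the columns -/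
def cs : List ℕ := [270336, 532480, 65, 66, 16777216, 1073741824, 68719476736, 4398046511104, 281474976710656]

theorem hc : evC [11, 15, 15, 15] = cs := by decide +kernel

theorem hb : chkB 6561 13 row 13 (tab cs) [(false, 1)] [.cell [(false, 0)], .base 0 1 2, .cell [(true, 3), (true, 1)],
  .cnt 0 [25, 28, 32, 37, 39, 40], .cell [(true, 8), (true, 2)], .base 0 84 2, .cell [(true, 6), (true, 1), (true, 0),
  (true, 11)], .base 0 82 2, .cell [(true, 14), (true, 3), (true, 0), (true, 13), (false, 16), (true, 1)], .base 0
  3830 2, .cell [(true, 15), (true, 4), (true, 9), (true, 7)], .cnt 0 [0], .cell [(true, 19), (true, 18), (true, 6),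
  (true, 9), (true, 2), (false, 5), (false, 3)], .cnt 0 [0], .cell [(true, 21), (true, 20), (true, 8), (true, 11),
  (true, 5), (false, 7), (false, 4)], .cnt 0 [0], .cell [(true, 23), (true, 22), (true, 10), (true, 7), (false, 6),
  (false, 13), (false, 12)], .cnt 0 [0], .cell [(true, 25), (true, 14), (true, 11), (true, 8), (false, 6), (false, 9),
  (true, 24)], .cnt 0 [0], .cell [(true, 27), (true, 26), (true, 17), (false, 2), (true, 11), (false, 0), (false, 14),
  (false, 10)], .cnt 0 [0], .cell [(true, 27), (true, 16), (false, 0), (false, 10)], .cnt 0 [0], .cell [(true, 28),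
  (true, 17), (false, 10), (false, 20)], .cnt 0 [0], .cell [(true, 33), (true, 19), (false, 4), (true, 23), (true,
  32), (false, 35)], .cnt 0 [0], .cell [(true, 35), (true, 21), (false, 6), (true, 18), (true, 34), (false, 24)], .cnt
  0 [0], .cell [(true, 37), (true, 23), (false, 8), (true, 21), (true, 36), (false, 26)], .cnt 0 [0], .cell [(true,
  39), (true, 38), (true, 26), (false, 10), (true, 22), (false, 18)], .cnt 0 [0], .cell [(true, 38), (true, 30),
  (true, 27), (false, 20)], .cnt 0 [0], .cell [(true, 43), (true, 32), (false, 8), (true, 27), (true, 29), (true,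
  42)], .cnt 0 [0], .cell [(true, 45), (true, 34), (false, 10), (true, 32), (false, 18), (false, 47)], .cnt 0 [0],
  .cell [(true, 45), (false, 14), (true, 37), (false, 28)], .cnt 0 [0], .cell [(true, 42), (false, 30), (true, 39),
  (true, 38), (true, 49)], .cnt 0 [0], .cell [(true, 51), (true, 50), (false, 0), (false, 20), (true, 34), (false,
  53), (false, 41)], .cnt 0 [0], .cell [(true, 53), (true, 52), (false, 2), (false, 22), (true, 37), (false, 55),
  (false, 43)], .cnt 0 [0], .cell [(true, 55), (true, 44), (false, 20), (false, 4), (false, 10), (false, 57)], .cnt 0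
  [0], .cell [(true, 57), (true, 46), (false, 22), (false, 12), (false, 44), (false, 43), (false, 54), (false, 59),
  (false, 40), (false, 1)], .cnt 0 [0], .cell [(true, 50), (true, 45), (true, 46), (false, 22)], .cnt 0 [0], .cell
  [(true, 59), (false, 28), (false, 0), (false, 42)], .cnt 0 [0], .cell [(true, 60), (false, 2), (false, 42), (false,
  53), (false, 52), (false, 47)], .cnt 0 [0], .cell [(true, 56), (true, 51), (true, 52), (false, 44), (true, 55),
  (false, 49), (true, 28), (true, 26), (true, 6)], .cnt 0 [0], .cell [(true, 58), (true, 53), (true, 54), (true, 51),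
  (false, 46)], .cnt 0 [0], .cell [(true, 68), (true, 59), (true, 56), (false, 44), (true, 58), (false, 71)], .cnt 0
  [0], .cell [(true, 62), (true, 57), (true, 58), (true, 55), (true, 50)], .cnt 0 [0], .cell [(true, 63), (false, 48),
  (true, 62), (false, 44), (false, 24), (false, 75)], .cnt 0 [0], .cell [(true, 77), (true, 65), (false, 6), (false,
  12), (true, 46)], .cnt 0 [0], .cell [(true, 67), (false, 52), (true, 66), (false, 4), (false, 14), (false, 73),
  (false, 79), (false, 76), (false, 61), (true, 56)], .cnt 0 [0], .cell [(true, 69), (false, 54), (false, 40), (true,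
  68), (true, 75)], .cnt 0 [0], .cell [(true, 80), (true, 71), (false, 28), (false, 10), (false, 62), (false, 81)],
  .cnt 0 [0], .cell [(true, 82), (true, 73), (false, 6), (false, 18), (true, 72), (false, 66)], .cnt 0 [0], .cell
  [(true, 76), (true, 71), (true, 72), (false, 30)], .cnt 0 [0], .cell [(true, 86), (true, 77), (false, 10), (false,
  58), (false, 0), (true, 70)], .cnt 0 [0], .cell [(true, 80), (true, 73), (false, 68), (false, 10), (true, 79),
  (false, 78)], .cnt 0 [0], .cell [(true, 82), (true, 74), (false, 68), (false, 32), (true, 78)], .cnt 0 [0], .cell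
  [(true, 92), (false, 18), (false, 48), (false, 2), (true, 82), (false, 95)], .cnt 0 [0], .cell [(true, 86), (false,
  74), (false, 58), (false, 0), (true, 85)], .cnt 0 [0], .cell [(false, 72), (false, 6), (false, 26), (false, 44),
  (false, 24), (false, 97)], .cnt 0 [0], .cell [(true, 89), (false, 74), (false, 4), (false, 8), (false, 20)], .cnt 0
  [0], .cell [(true, 103), (false, 76), (false, 8), (false, 20)], .cnt 0 [0], .cell [(true, 101), (false, 4), (false,
  60), (true, 87), (true, 78)], .cnt 0 [0], .cell [(true, 95), (true, 89), (false, 2), (false, 0), (false, 76)], .cnt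
  0 [0], .cell [(true, 97), (false, 82), (true, 90), (false, 86), (false, 8), (true, 2)], .cnt 0 [0], .cell [(true,
  92), (false, 84), (false, 42), (false, 6), (false, 4)], .cnt 0 [0], .cell [(true, 102), (false, 90), (false, 74),
  (true, 101), (false, 95), (false, 94), (false, 100), (true, 2), (true, 16)], .cnt 0 [0], .cell [(true, 112), (false,
  4), (false, 0), (false, 68), (true, 102), (false, 115)], .cnt 0 [0], .cell [(true, 106), (false, 6), (false, 40),
  (true, 98), (false, 68), (false, 2)], .cnt 0 [0], .cell [(true, 115), (false, 74), (true, 107), (false, 101), (true,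
  92), (true, 8), (true, 42), (true, 10), (true, 18), (true, 0)], .cnt 0 [0], .cell [(true, 110), (true, 105), (false,
  18), (false, 96), (false, 108), (true, 102)], .cnt 0 [0], .cell [(true, 112), (false, 14), (false, 36), (false,
  100), (false, 104)], .cnt 0 [0], .cell [(true, 114), (true, 109), (false, 102), (false, 64), (true, 40), (false,
  107)], .cnt 0 [0], .cell [(true, 124), (true, 112), (false, 4), (false, 10), (false, 100), (true, 109)], .cnt 0 [0],
  .cell [(true, 114), (false, 70), (false, 22), (false, 44), (false, 4), (false, 129)], .cnt 0 [0], .cell [(false,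
  108), (false, 2), (false, 40), (false, 0), (false, 94), (true, 58), (false, 112)], .cnt 0 [0], .cell [(true, 133),
  (true, 121), (false, 4), (false, 6), (true, 78)], .cnt 0 [0], .cell [(true, 135), (true, 123), (false, 44), (false,
  6), (true, 117)], .cnt 0 [0], .cell [(true, 130), (false, 106), (false, 30), (false, 28)], .cnt 0 [0], .cell [(true,
  127), (false, 112), (false, 32), (false, 42), (false, 98), (false, 139)], .cnt 0 [0], .cell [(true, 129), (false,
  100), (false, 36), (false, 70), (false, 8), (false, 122)], .cnt 0 [0], .cell [(true, 140), (true, 131), (false, 20),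
  (false, 26), (false, 8), (true, 128)], .cnt 0 [0], .cell [(true, 130), (false, 108), (false, 10), (false, 118),
  (false, 72), (false, 142)], .cnt 0 [0], .cell [(true, 135), (false, 104), (false, 18), (false, 88), (false, 4),
  (false, 134)], .cnt 0 [0], .cell [(true, 149), (false, 126), (false, 8), (false, 10), (false, 44)], .cnt 0 [0], .fin
  [149, 138, 4, 132, 126, 42, 22, 135, 8, 120, 64, 66, 40, 110, 60, 10, 50, 16, 38, 0, 94, 30, 18, 133, 24, 48, 102,
  28, 2, 52, 26, 36, 44, 68, 6, 104, 14, 54, 20]] 26873855 = true := by decide +kernel

theorem hs : evC ([11, 16, 17, 15, 16, 16] ++ [11, 15, 15, 15]) = evC ([11, 15, 15, 15] ++ [11, 16, 17, 15, 16, 16])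
  := by decide +kernel

theorem h3 : eqF (flat [11, 16, 17, 15, 16, 16]) ws = true := by decide +kernel

theorem h4 : neF (ws ++ cj wc wm) (cj wc wm ++ ws) = true := by decide +kernel

theorem cent : Nat.card (centralizer ({g wm} : Set G)) ≤ 40310784 :=
  cent2 h1 h2 hc (by decide +kernel) hb hs h3 h4 (by norm_num)

theorem ty : TyB 22 (g wm) := (tyB_iff sg_6D _).2 ⟨orderOf_of_ordF ord,
  List.forall_mem_cons.2 ⟨tr_one ch_m,
  List.forall_mem_cons.2 ⟨tr_yy h2,
  List.forall_mem_cons.2 ⟨tr_pw l3 ch_v3,
  List.forall_mem_nil _⟩⟩⟩⟩

end Cfsg.Agent.TAB.B.C3.T6D

namespace Cfsg.Agent.TAB.B.C3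

theorem boxC_6D : BoxCB 22 := boxC_of T6D.ty T6D.cent cnt_6D (by norm_num)

end Cfsg.Agent.TAB.B.C3
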